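import Mathlib

/-!
# Order types: counting solutions of `x ^ n = 1`

`F X n` is the number of solutions of `x ^ n = 1` in `X`.  It is multiplicative over
direct products, and two finite groups with the same `F` have the same number of
elements of each order.
-/

namespace Cfsg.Agent.H2.OT

/-- number of solutions of `x ^ n = 1` -/
noncomputable def F (X : Type*) [Monoid X] (n : ℕ) : ℕ := Nat.card {x : X // x ^ n = 1}

theorem F_prod (A B : Type*) [Monoid A] [Monoid B] (n : ℕ) :
    F (A × B) n = F A n * F B n := by
  unfold F
  rw [← Nat.card_prod]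
  apply Nat.card_congr
  refine
    { toFun := fun x => (⟨x.1.1, ?_⟩, ⟨x.1.2, ?_⟩)
      invFun := fun y => ⟨(y.1.1, y.2.1), ?_⟩
      left_inv := fun x => rfl
      right_inv := fun y => rfl }
  · have := congrArg Prod.fst x.2
    simpa using this
  · have := congrArg Prod.snd x.2
    simpa using this
  · apply Prod.ext
    · simpa using y.1.2
    · simpa using y.2.2

theorem F_pi (A : Type*) [Monoid A] (k n : ℕ) :
    F (Fin k → A) n = F A n ^ k := by
  unfold F
  have h1 : Nat.card (Fin k → {a : A // a ^ n = 1}) = Nat.card {a : A // a ^ n = 1} ^ k := by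
    rw [Nat.card_fun, Nat.card_fin]
  rw [← h1]
  apply Nat.card_congr
  refine
    { toFun := fun f i => ⟨f.1 i, ?_⟩
      invFun := fun g => ⟨fun i => (g i).1, ?_⟩
      left_inv := fun f => rfl
      right_inv := fun g => rfl }
  · have := congrFun f.2 i
    simpa using this
  · funext i
    simpa using (g i).2

theorem F_congr {A B : Type*} [Monoid A] [Monoid B] (e : A ≃* B) (n : ℕ) : F A n = F B n := by
  unfold F
  apply Nat.card_congr
  refine
    { toFun := fun x => ⟨e x.1, by rw [← map_pow, x.2, map_one]⟩
      invFun := fun y => ⟨e.symm y.1, by rw [← map_pow, y.2, map_one]⟩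
      left_inv := fun x => by simp
      right_inv := fun y => by simp }

theorem F_gcd {A : Type*} [Group A] (E : ℕ) (hE : ∀ a : A, a ^ E = 1) (n : ℕ) :
    F A n = F A (Nat.gcd n E) := by
  unfold F
  apply Nat.card_congr
  apply Equiv.subtypeEquivRight
  intro x
  rw [← orderOf_dvd_iff_pow_eq_one, ← orderOf_dvd_iff_pow_eq_one]
  constructor
  · intro h
    exact Nat.dvd_gcd h (orderOf_dvd_of_pow_eq_one (hE x))
  · intro h
    exact h.trans (Nat.gcd_dvd_left n E)

theorem F_card {A : Type*} [Group A] (E : ℕ) (hE : ∀ a : A, a ^ E = 1) : F A E = Nat.card A := by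
  unfold F
  apply Nat.card_congr
  exact Equiv.subtypeUnivEquiv hE

/-- number of elements of order `d` -/
noncomputable def cnt (X : Type*) [Monoid X] (d : ℕ) : ℕ := Nat.card {x : X // orderOf x = d}

theorem sum_cnt (A : Type*) [Group A] [Finite A] {n : ℕ} (hn : n ≠ 0) :
    ∑ d ∈ n.divisors, cnt A d = F A n := by
  classical
  have : Fintype A := Fintype.ofFinite A
  have h := sum_card_orderOf_eq_card_pow_eq_one (G := A) hn
  unfold F cnt
  rw [Nat.card_eq_fintype_card, Fintype.card_subtype, ← h]
  apply Finset.sum_congr rfl
  intro d _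
  rw [Nat.card_eq_fintype_card, Fintype.card_subtype]

theorem cnt_zero (A : Type*) [Group A] [Finite A] : cnt A 0 = 0 := by
  unfold cnt
  have : IsEmpty {x : A // orderOf x = 0} := ⟨fun x => (orderOf_pos x.1).ne' x.2⟩
  exact Nat.card_of_isEmpty

theorem cnt_eq_of_F_eq {A B : Type*} [Group A] [Finite A] [Group B] [Finite B]
    (h : ∀ n, F A n = F B n) (n : ℕ) : cnt A n = cnt B n := by
  induction n using Nat.strong_induction_on with
  | _ n ih =>
    rcases Nat.eq_zero_or_pos n with rfl | hn
    · rw [cnt_zero, cnt_zero]
    · have hA := sum_cnt A hn.ne'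
      have hB := sum_cnt B hn.ne'
      rw [← Nat.insert_self_properDivisors hn.ne',
        Finset.sum_insert Nat.self_notMem_properDivisors] at hA hB
      have hs : ∑ d ∈ n.properDivisors, cnt A d = ∑ d ∈ n.properDivisors, cnt B d := by
        apply Finset.sum_congr rfl
        intro d hd
        exact ih d (Nat.mem_properDivisors.mp hd).2
      have := h n
      omega

theorem isSolvable_pi_fin (A : Type*) [Group A] [Group.IsSolvable A] (k : ℕ) :
    Group.IsSolvable (Fin k → A) := by
  induction k with
  | zero => infer_instance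
  | succ k ih =>
    have := ih
    let f : (Fin (k + 1) → A) →* A × (Fin k → A) :=
      { toFun := fun g => (g 0, fun i => g i.succ)
        map_one' := rfl
        map_mul' := fun _ _ => rfl }
    apply Group.isSolvable_of_isSolvable_injective (f := f)
    intro g1 g2 h
    funext i
    have h1 : g1 0 = g2 0 := congrArg Prod.fst h
    have h2 : (fun i : Fin k => g1 i.succ) = fun i => g2 i.succ := congrArg Prod.snd h
    refine Fin.cases h1 (fun j => ?_) i
    exact congrFun h2 j

end Cfsg.Agent.H2.OT
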