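import Mathlib
import Cfsg.Agent.H2.OrdType.Basic

/-!
# Verified enumeration of permutation groups given by generators

Permutations of `Fin n` (`n ≤ 128`) are represented by natural numbers (`DP`): the images are
the digits in base 128.  A certificate (`pairs`) describes a spanning tree of the Cayley graph;
`build` computes the element list, and boolean checks (evaluated by the kernel) show it is
closed and duplicate free.
-/

namespace Cfsg.Agent.H2.OT

open scoped Pointwise

/-- data permutation: the images are the base 128 digits -/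
abbrev DP := ℕ

/-- the `i`-th digit -/
def digit (c i : ℕ) : ℕ := c / 128 ^ i % 128

/-- `∑ i < k, f i * 128 ^ i` -/
def csum (f : ℕ → ℕ) : ℕ → ℕ
  | 0 => 0
  | k + 1 => csum f k + f k * 128 ^ k

/-- composition `a ∘ b` -/
def dcomp (n : ℕ) (a b : DP) : DP := csum (fun i => digit a (digit b i)) n

/-- identity -/
def did (n : ℕ) : DP := csum (fun i => i) n

theorem csum_lt (f : ℕ → ℕ) (n : ℕ) (hf : ∀ i < n, f i < 128) : csum f n < 128 ^ n := by
  induction n with
  | zero => simp [csum]
  | succ k ih =>
    have h1 := ih (fun i hi => hf i (Nat.lt_succ_of_lt hi))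
    have h2 := hf k (Nat.lt_succ_self k)
    rw [csum, pow_succ]
    have : f k * 128 ^ k ≤ 127 * 128 ^ k := Nat.mul_le_mul_right _ (by omega)
    omega

theorem digit_csum (f : ℕ → ℕ) (n : ℕ) (hf : ∀ i < n, f i < 128) (i : ℕ) (hi : i < n) :
    digit (csum f n) i = f i := by
  induction n with
  | zero => omega
  | succ k ih =>
    have hlt := csum_lt f k (fun j hj => hf j (Nat.lt_succ_of_lt hj))
    have hk := hf k (Nat.lt_succ_self k)
    rw [csum]
    rcases Nat.lt_succ_iff_lt_or_eq.mp hi with h | h
    · have e : 128 ^ k = 128 ^ i * (128 * 128 ^ (k - i - 1)) := by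
        rw [← pow_succ', ← pow_add]
        congr 1
        omega
      have h3 := ih (fun j hj => hf j (Nat.lt_succ_of_lt hj)) h
      unfold digit at h3 ⊢
      rw [e, ← mul_assoc, mul_comm (f k), mul_assoc,
        Nat.add_mul_div_left _ _ (by positivity : 0 < 128 ^ i)]
      rw [show f k * (128 * 128 ^ (k - i - 1)) = 128 * (f k * 128 ^ (k - i - 1)) by ring,
        Nat.add_mul_mod_self_left]
      exact h3
    · subst h
      unfold digit
      rw [Nat.add_mul_div_right _ _ (by positivity : 0 < 128 ^ i), Nat.div_eq_of_lt hlt, zero_add,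
        Nat.mod_eq_of_lt hk]

theorem eq_of_digits (n : ℕ) : ∀ c c' : ℕ, c < 128 ^ n → c' < 128 ^ n →
    (∀ i < n, digit c i = digit c' i) → c = c' := by
  induction n with
  | zero =>
    intro c c' h1 h2 _
    simp at h1 h2
    omega
  | succ k ih =>
    intro c c' h1 h2 h
    have e0 : c % 128 = c' % 128 := by
      have := h 0 (Nat.succ_pos k)
      simpa [digit] using this
    have e1 : c / 128 = c' / 128 := by
      apply ih
      · rw [pow_succ] at h1
        exact Nat.div_lt_of_lt_mul (by rwa [mul_comm] at h1)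
      · rw [pow_succ] at h2
        exact Nat.div_lt_of_lt_mul (by rwa [mul_comm] at h2)
      · intro i hi
        have := h (i + 1) (Nat.succ_lt_succ hi)
        unfold digit at this ⊢
        rw [pow_succ', ← Nat.div_div_eq_div_mul, ← Nat.div_div_eq_div_mul] at this
        exact this
    rw [← Nat.div_add_mod c 128, ← Nat.div_add_mod c' 128, e0, e1]

/-! ### fast boolean list functions (written with recursors for cheap kernel evaluation) -/

def lmem (x : DP) (l : List DP) : Bool :=
  @List.rec DP (fun _ => Bool) false (fun y _ ih => Bool.rec ih true (Nat.beq x y)) l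

theorem beq_false_of_ne {x y : ℕ} (h : x ≠ y) : Nat.beq x y = false := by
  cases hb : Nat.beq x y
  · rfl
  · exact absurd (Nat.eq_of_beq_eq_true hb) h

theorem lmem_iff (x : DP) (l : List DP) : lmem x l = true ↔ x ∈ l := by
  induction l with
  | nil => simp [lmem]
  | cons y ys ih =>
    have h : lmem x (y :: ys) = Bool.rec (lmem x ys) true (Nat.beq x y) := rfl
    rw [h]
    by_cases hxy : x = y
    · subst hxy
      rw [Nat.beq_refl]
      simp
    · rw [beq_false_of_ne hxy]
      simp [ih, hxy]

def allB (p : DP → Bool) (l : List DP) : Bool :=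
  @List.rec DP (fun _ => Bool) true (fun x _ ih => Bool.rec false ih (p x)) l

theorem allB_iff (p : DP → Bool) (l : List DP) : allB p l = true ↔ ∀ x ∈ l, p x = true := by
  induction l with
  | nil => simp [allB]
  | cons y ys ih =>
    have h : allB p (y :: ys) = Bool.rec false (allB p ys) (p y) := rfl
    rw [h]
    cases hb : p y <;> simp [ih, hb]

def nodupB (l : List DP) : Bool :=
  @List.rec DP (fun _ => Bool) true (fun x xs ih => Bool.rec ih false (lmem x xs)) l

theorem nodupB_iff (l : List DP) : nodupB l = true ↔ l.Nodup := by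
  induction l with
  | nil => simp [nodupB]
  | cons y ys ih =>
    have h : nodupB (y :: ys) = Bool.rec (nodupB ys) false (lmem y ys) := rfl
    rw [h, List.nodup_cons]
    cases hb : lmem y ys
    · have : y ∉ ys := fun e => by rw [(lmem_iff y ys).mpr e] at hb; exact Bool.noConfusion hb
      simp [ih, this]
    · have : y ∈ ys := (lmem_iff y ys).mp hb
      simp [this]

def countB (p : DP → Bool) (l : List DP) : ℕ :=
  @List.rec DP (fun _ => ℕ) 0 (fun x _ ih => Bool.rec ih (ih + 1) (p x)) l

theorem countB_eq (p : DP → Bool) (l : List DP) : countB p l = (l.filter p).length := by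
  induction l with
  | nil => simp [countB]
  | cons y ys ih =>
    have h : countB p (y :: ys) = Bool.rec (countB p ys) (countB p ys + 1) (p y) := rfl
    rw [h]
    cases hb : p y <;> simp [ih, hb]

/-! ### representation of permutations -/

/-- `a` represents the permutation `σ` -/
def Rep (n : ℕ) (a : DP) (σ : Equiv.Perm (Fin n)) : Prop :=
  a < 128 ^ n ∧ ∀ i : Fin n, digit a i = (σ i : ℕ)

theorem rep_did {n : ℕ} (hn : n ≤ 128) : Rep n (did n) 1 := by
  have hf : ∀ i < n, (fun i : ℕ => i) i < 128 := fun i hi => lt_of_lt_of_le hi hn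
  refine ⟨csum_lt _ n hf, fun i => ?_⟩
  rw [did, digit_csum _ n hf i i.2]
  rfl

theorem rep_comp {n : ℕ} (hn : n ≤ 128) {a b : DP} {σ τ : Equiv.Perm (Fin n)} (ha : Rep n a σ)
    (hb : Rep n b τ) : Rep n (dcomp n a b) (σ * τ) := by
  have key : ∀ i : Fin n, digit a (digit b i) = ((σ * τ) i : ℕ) := by
    intro i
    rw [hb.2 i, ha.2 (τ i)]
    rfl
  have hf : ∀ i < n, (fun i => digit a (digit b i)) i < 128 := by
    intro i hi
    show digit a (digit b i) < 128
    rw [key ⟨i, hi⟩]
    exact lt_of_lt_of_le (Fin.is_lt _) hn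
  refine ⟨csum_lt _ n hf, fun i => ?_⟩
  rw [dcomp, digit_csum _ n hf i i.2]
  exact key i

theorem rep_perm_unique {n : ℕ} {a : DP} {σ τ : Equiv.Perm (Fin n)} (h1 : Rep n a σ)
    (h2 : Rep n a τ) : σ = τ := by
  apply Equiv.ext
  intro i
  apply Fin.ext
  rw [← h1.2 i, ← h2.2 i]

theorem rep_data_unique {n : ℕ} {a b : DP} {σ : Equiv.Perm (Fin n)} (h1 : Rep n a σ)
    (h2 : Rep n b σ) : a = b := by
  apply eq_of_digits n a b h1.1 h2.1
  intro i hi
  rw [h1.2 ⟨i, hi⟩, h2.2 ⟨i, hi⟩]

/-- the list of digits -/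
def digs (n : ℕ) (c : DP) : List ℕ := (List.range n).map (digit c)

/-- validity of generator data -/
def Valid (n : ℕ) (a : DP) : Prop := a < 128 ^ n ∧ (∀ x ∈ digs n a, x < n) ∧ (digs n a).Nodup

instance (n : ℕ) (a : DP) : Decidable (Valid n a) := by
  unfold Valid
  infer_instance

theorem exists_rep_of_valid {n : ℕ} {a : DP} (h : Valid n a) :
    ∃ σ : Equiv.Perm (Fin n), Rep n a σ := by
  obtain ⟨hl, hlt, hnd⟩ := h
  have hlt' : ∀ i : Fin n, digit a i < n := fun i =>
    hlt _ (List.mem_map.mpr ⟨i, List.mem_range.mpr i.2, rfl⟩)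
  let f : Fin n → Fin n := fun i => ⟨digit a i, hlt' i⟩
  have hinj : Function.Injective f := by
    intro i j hij
    have h1 : digit a i = digit a j := congrArg Fin.val hij
    apply Fin.ext
    exact List.inj_on_of_nodup_map hnd (List.mem_range.mpr i.2) (List.mem_range.mpr j.2) h1
  have hbij : Function.Bijective f := Finite.injective_iff_bijective.mp hinj
  exact ⟨Equiv.ofBijective f hbij, hl, fun i => rfl⟩

/-! ### the group generated by data permutations -/

/-- permutations represented by some generator datum -/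
def genSet (n : ℕ) (gd : List DP) : Set (Equiv.Perm (Fin n)) := {σ | ∃ g ∈ gd, Rep n g σ}

/-- the permutation group generated by the data -/
def grp (n : ℕ) (gd : List DP) : Subgroup (Equiv.Perm (Fin n)) := Subgroup.closure (genSet n gd)

/-- `a` represents an element of the group -/
def Good (n : ℕ) (gd : List DP) (a : DP) : Prop := ∃ σ ∈ grp n gd, Rep n a σ

def buildAux (n : ℕ) (gd : List DP) : List DP → List (ℕ × ℕ) → List DP
  | seen, [] => seen
  | seen, (c, p) :: rest =>
    buildAux n gd (dcomp n (gd.getD c (did n)) (seen.getD p (did n)) :: seen) rest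

/-- element list from a spanning tree certificate -/
def build (n : ℕ) (gd : List DP) (pairs : List (ℕ × ℕ)) : List DP := buildAux n gd [did n] pairs

theorem good_did {n : ℕ} (hn : n ≤ 128) (gd : List DP) : Good n gd (did n) :=
  ⟨1, Subgroup.one_mem _, rep_did hn⟩

theorem good_getD {n : ℕ} (hn : n ≤ 128) {gd : List DP} {l : List DP}
    (hl : ∀ a ∈ l, Good n gd a) (p : ℕ) : Good n gd (l.getD p (did n)) := by
  by_cases hp : p < l.length
  · rw [List.getD_eq_getElem _ _ hp]
    exact hl _ (List.getElem_mem _)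
  · rw [List.getD_eq_default _ _ (not_lt.mp hp)]
    exact good_did hn gd

theorem good_gen {n : ℕ} (hn : n ≤ 128) {gd : List DP} (hv : ∀ g ∈ gd, Valid n g) (c : ℕ) :
    Good n gd (gd.getD c (did n)) := by
  apply good_getD hn
  intro g hg
  obtain ⟨σ, hσ⟩ := exists_rep_of_valid (hv g hg)
  exact ⟨σ, Subgroup.subset_closure ⟨g, hg, hσ⟩, hσ⟩

theorem good_comp {n : ℕ} (hn : n ≤ 128) {gd : List DP} {a b : DP} (ha : Good n gd a)
    (hb : Good n gd b) : Good n gd (dcomp n a b) := by
  obtain ⟨σ, hσ, h1⟩ := ha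
  obtain ⟨τ, hτ, h2⟩ := hb
  exact ⟨σ * τ, Subgroup.mul_mem _ hσ hτ, rep_comp hn h1 h2⟩

theorem buildAux_good {n : ℕ} (hn : n ≤ 128) {gd : List DP} (hv : ∀ g ∈ gd, Valid n g)
    (pairs : List (ℕ × ℕ)) (seen : List DP) (hs : ∀ a ∈ seen, Good n gd a) :
    ∀ a ∈ buildAux n gd seen pairs, Good n gd a := by
  induction pairs generalizing seen with
  | nil => exact hs
  | cons q rest ih =>
    obtain ⟨c, p⟩ := q
    show ∀ a ∈ buildAux n gd (dcomp n (gd.getD c (did n)) (seen.getD p (did n)) :: seen) rest, _
    apply ih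
    intro a ha
    rcases List.mem_cons.mp ha with rfl | ha
    · exact good_comp hn (good_gen hn hv c) (good_getD hn hs p)
    · exact hs a ha

theorem buildAux_subset (n : ℕ) (gd : List DP) (pairs : List (ℕ × ℕ)) (seen : List DP) :
    ∀ a ∈ seen, a ∈ buildAux n gd seen pairs := by
  induction pairs generalizing seen with
  | nil => exact fun a ha => ha
  | cons q rest ih =>
    obtain ⟨c, p⟩ := q
    intro a ha
    show a ∈ buildAux n gd (dcomp n (gd.getD c (did n)) (seen.getD p (did n)) :: seen) rest
    exact ih _ a (List.mem_cons_of_mem _ ha)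

theorem build_good {n : ℕ} (hn : n ≤ 128) {gd : List DP} (hv : ∀ g ∈ gd, Valid n g)
    (pairs : List (ℕ × ℕ)) : ∀ a ∈ build n gd pairs, Good n gd a := by
  apply buildAux_good hn hv
  intro a ha
  rw [List.mem_singleton.mp ha]
  exact good_did hn gd

theorem did_mem_build (n : ℕ) (gd : List DP) (pairs : List (ℕ × ℕ)) :
    did n ∈ build n gd pairs :=
  buildAux_subset n gd pairs _ _ (List.mem_singleton.mpr rfl)

/-- closure check -/
def checkClosed (n : ℕ) (gd L : List DP) : Bool :=
  allB (fun a => allB (fun g => lmem (dcomp n g a) L) gd) L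

theorem exists_rep_of_mem_grp {n : ℕ} (hn : n ≤ 128) {gd : List DP} {pairs : List (ℕ × ℕ)}
    (hc : checkClosed n gd (build n gd pairs) = true)
    {σ : Equiv.Perm (Fin n)} (hσ : σ ∈ grp n gd) : ∃ a ∈ build n gd pairs, Rep n a σ := by
  set L := build n gd pairs with hL
  let S : Set (Equiv.Perm (Fin n)) := {τ | ∃ a ∈ L, Rep n a τ}
  have hfin : S.Finite := Set.toFinite S
  have hgen : genSet n gd ⊆ (MulAction.stabilizer (Equiv.Perm (Fin n)) S : Set _) := by
    intro ρ hρ
    obtain ⟨g, hg, hgρ⟩ := hρ
    rw [SetLike.mem_coe, MulAction.mem_stabilizer_set' hfin]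
    intro τ hτ
    obtain ⟨a, ha, haτ⟩ := hτ
    have h1 := (allB_iff _ _).mp hc a ha
    have h2 := (allB_iff _ _).mp h1 g hg
    exact ⟨dcomp n g a, (lmem_iff _ _).mp h2, rep_comp hn hgρ haτ⟩
  have hle : grp n gd ≤ MulAction.stabilizer (Equiv.Perm (Fin n)) S :=
    (Subgroup.closure_le _).mpr hgen
  have h1 : (1 : Equiv.Perm (Fin n)) ∈ S := ⟨did n, did_mem_build n gd pairs, rep_did hn⟩
  have h2 := (MulAction.mem_stabilizer_set' hfin).mp (hle hσ) h1
  rw [smul_eq_mul, mul_one] at h2
  exact h2

theorem card_subtype_mem_list {α : Type*} (l : List α) (hl : l.Nodup) :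
    Nat.card {a : α // a ∈ l} = l.length := by
  classical
  rw [Nat.card_eq_fintype_card, Fintype.card_of_subtype l.toFinset (by simp),
    List.toFinset_card_of_nodup hl]

/-- counting elements of the group by a predicate on the data -/
theorem card_filter_eq {n : ℕ} (hn128 : n ≤ 128) {gd : List DP} {pairs : List (ℕ × ℕ)}
    (hv : ∀ g ∈ gd, Valid n g)
    (hc : checkClosed n gd (build n gd pairs) = true)
    (hn : nodupB (build n gd pairs) = true)
    (P : DP → Bool) (Q : Equiv.Perm (Fin n) → Prop)
    (hPQ : ∀ a σ, Rep n a σ → (P a = true ↔ Q σ)) :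
    Nat.card {x : grp n gd // Q x.1} = countB P (build n gd pairs) := by
  classical
  set L := build n gd pairs with hL
  have hnd : L.Nodup := (nodupB_iff L).mp hn
  rw [countB_eq, ← card_subtype_mem_list _ (hnd.filter _)]
  symm
  have hgood : ∀ a ∈ L, Good n gd a := build_good hn128 hv pairs
  let ψ : {a : DP // a ∈ L.filter P} → {x : grp n gd // Q x.1} := fun a =>
    have ha : a.1 ∈ L ∧ P a.1 = true := List.mem_filter.mp a.2
    ⟨⟨(hgood a.1 ha.1).choose, (hgood a.1 ha.1).choose_spec.1⟩,
      (hPQ a.1 _ (hgood a.1 ha.1).choose_spec.2).mp ha.2⟩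
  have hψ : ∀ a, Rep n a.1 (ψ a).1.1 := fun a =>
    have ha : a.1 ∈ L ∧ P a.1 = true := List.mem_filter.mp a.2
    (hgood a.1 ha.1).choose_spec.2
  apply Nat.card_congr
  apply Equiv.ofBijective ψ
  constructor
  · intro a b hab
    apply Subtype.ext
    have h1 := hψ a
    have h2 := hψ b
    rw [hab] at h1
    exact rep_data_unique h1 h2
  · intro x
    obtain ⟨a, haL, har⟩ := exists_rep_of_mem_grp hn128 hc x.1.2
    have hPa : P a = true := (hPQ a _ har).mpr x.2
    refine ⟨⟨a, List.mem_filter.mpr ⟨haL, hPa⟩⟩, ?_⟩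
    apply Subtype.ext
    apply Subtype.ext
    exact rep_perm_unique (hψ _) har

end Cfsg.Agent.H2.OT
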