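import Mathlib
import Cfsg.Agent.H2.OrdType.PermList

/-!
# Statistics `F X d` for verified permutation groups of exponent dividing 84
-/

namespace Cfsg.Agent.H2.OT

/-- the divisors of 84 -/
def divs84 : List ℕ := [1, 2, 3, 4, 6, 7, 12, 14, 21, 28, 42, 84]

/-- powers of `a` along an addition chain, with exponents -/
def pwe (n : ℕ) (a : DP) : List (ℕ × DP) :=
  let p2 := dcomp n a a
  let p3 := dcomp n p2 a
  let p4 := dcomp n p2 p2
  let p6 := dcomp n p3 p3
  let p7 := dcomp n p6 a
  let p12 := dcomp n p6 p6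
  let p14 := dcomp n p7 p7
  let p21 := dcomp n p14 p7
  let p28 := dcomp n p14 p14
  let p42 := dcomp n p21 p21
  let p84 := dcomp n p42 p42
  [(1, a), (2, p2), (3, p3), (4, p4), (6, p6), (7, p7), (12, p12), (14, p14), (21, p21),
    (28, p28), (42, p42), (84, p84)]

/-- `a ^ e` for `e ∣ 84` (and `0` otherwise) -/
def dpw (n e : ℕ) (a : DP) : DP := ((pwe n a).lookup e).getD 0

theorem rep_dpw {n : ℕ} (hn : n ≤ 128) {a : DP} {σ : Equiv.Perm (Fin n)} (ha : Rep n a σ)
    {e : ℕ} (he : e ∈ divs84) : Rep n (dpw n e a) (σ ^ e) := by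
  have h2 : Rep n (dcomp n a a) (σ ^ 2) := by
    have := rep_comp hn ha ha
    rwa [← pow_two] at this
  have h3 : Rep n (dcomp n (dcomp n a a) a) (σ ^ 3) := by
    have := rep_comp hn h2 ha
    rwa [← pow_succ] at this
  have h4 : Rep n (dcomp n (dcomp n a a) (dcomp n a a)) (σ ^ 4) := by
    have := rep_comp hn h2 h2
    rwa [← pow_add] at this
  have h6 := rep_comp hn h3 h3
  rw [← pow_add] at h6
  have h7 := rep_comp hn h6 ha
  rw [← pow_succ] at h7
  have h12 := rep_comp hn h6 h6
  rw [← pow_add] at h12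
  have h14 := rep_comp hn h7 h7
  rw [← pow_add] at h14
  have h21 := rep_comp hn h14 h7
  rw [← pow_add] at h21
  have h28 := rep_comp hn h14 h14
  rw [← pow_add] at h28
  have h42 := rep_comp hn h21 h21
  rw [← pow_add] at h42
  have h84 := rep_comp hn h42 h42
  rw [← pow_add] at h84
  simp only [divs84, List.mem_cons, List.not_mem_nil, or_false] at he
  rcases he with rfl | rfl | rfl | rfl | rfl | rfl | rfl | rfl | rfl | rfl | rfl | rfl
  · simpa [dpw, pwe] using ha
  · exact h2
  · exact h3
  · exact h4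
  · exact h6
  · exact h7
  · exact h12
  · exact h14
  · exact h21
  · exact h28
  · exact h42
  · exact h84

/-- does `a ^ e = 1` hold -/
def hit (n e : ℕ) (a : DP) : Bool := Nat.beq (dpw n e a) (did n)

theorem hit_iff {n : ℕ} (hn : n ≤ 128) {a : DP} {σ : Equiv.Perm (Fin n)} (ha : Rep n a σ)
    {e : ℕ} (he : e ∈ divs84) : hit n e a = true ↔ σ ^ e = 1 := by
  unfold hit
  have h1 := rep_dpw hn ha he
  constructor
  · intro h
    rw [Nat.eq_of_beq_eq_true h] at h1
    exact rep_perm_unique h1 (rep_did hn)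
  · intro h
    rw [h] at h1
    rw [rep_data_unique h1 (rep_did hn)]
    exact Nat.beq_refl _

/-- table of statistics -/
def statTbl (n : ℕ) (L : List DP) : List (ℕ × ℕ) := divs84.map fun e => (e, countB (hit n e) L)

/-- value read off a table -/
def fval (tbl : List (ℕ × ℕ)) (d : ℕ) : ℕ := (tbl.lookup (Nat.gcd d 84)).getD 0

theorem lookup_map_self {f : ℕ → ℕ} (l : List ℕ) {e : ℕ} (he : e ∈ l) :
    (l.map fun e => (e, f e)).lookup e = some (f e) := by
  induction l with
  | nil => simp at he
  | cons x xs ih =>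
    rw [List.map_cons, List.lookup_cons]
    by_cases hx : e = x
    · subst hx
      simp
    · have hxs : e ∈ xs := by
        rcases List.mem_cons.mp he with h | h
        · exact absurd h hx
        · exact h
      have : (e == x) = false := by simpa using hx
      rw [this]
      exact ih hxs

theorem gcd84_mem (d : ℕ) : Nat.gcd d 84 ∈ divs84 := by
  have h : Nat.gcd d 84 ∈ Nat.divisors 84 :=
    Nat.mem_divisors.mpr ⟨Nat.gcd_dvd_right d 84, by norm_num⟩
  have h2 : Nat.divisors 84 = divs84.toFinset := by decide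
  rw [h2] at h
  exact List.mem_toFinset.mp h

theorem allB_of_countB_eq_length (p : DP → Bool) (l : List DP) (h : countB p l = l.length) :
    allB p l = true := by
  rw [allB_iff]
  rw [countB_eq] at h
  intro x hx
  have := (List.filter_eq_self.mp (List.Sublist.eq_of_length List.filter_sublist h)) x hx
  exact this

theorem count84_of_stat {n : ℕ} {L : List DP} {tbl : List (ℕ × ℕ)} (ht : statTbl n L = tbl) :
    countB (hit n 84) L = fval tbl 84 := by
  rw [← ht]
  rfl

theorem pow84_grp {n : ℕ} (hn128 : n ≤ 128) {gd : List DP} {pairs : List (ℕ × ℕ)}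
    (hc : checkClosed n gd (build n gd pairs) = true)
    (tbl : List (ℕ × ℕ)) (ht : statTbl n (build n gd pairs) = tbl)
    (hlen : (build n gd pairs).length = fval tbl 84) (x : grp n gd) : x ^ 84 = 1 := by
  have he : allB (hit n 84) (build n gd pairs) = true :=
    allB_of_countB_eq_length _ _ ((count84_of_stat ht).trans hlen.symm)
  obtain ⟨a, haL, har⟩ := exists_rep_of_mem_grp hn128 hc x.2
  have h1 := (allB_iff _ _).mp he a haL
  have h2 := (hit_iff hn128 har (by decide : 84 ∈ divs84)).mp h1
  apply Subtype.ext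
  rw [Subgroup.coe_pow, h2]
  rfl

/-- the main statistics theorem -/
theorem F_grp {n : ℕ} (hn128 : n ≤ 128) {gd : List DP} {pairs : List (ℕ × ℕ)}
    (hv : ∀ g ∈ gd, Valid n g)
    (hc : checkClosed n gd (build n gd pairs) = true)
    (hn : nodupB (build n gd pairs) = true)
    (tbl : List (ℕ × ℕ)) (ht : statTbl n (build n gd pairs) = tbl)
    (hlen : (build n gd pairs).length = fval tbl 84) (d : ℕ) :
    F (grp n gd) d = fval tbl d := by
  rw [F_gcd 84 (pow84_grp hn128 hc tbl ht hlen) d]
  have hmem := gcd84_mem d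
  unfold fval
  rw [← ht]
  unfold statTbl
  rw [lookup_map_self divs84 hmem, Option.getD_some]
  rw [← card_filter_eq hn128 hv hc hn (hit n (Nat.gcd d 84)) (fun σ => σ ^ (Nat.gcd d 84) = 1)
    (fun a σ har => hit_iff hn128 har hmem)]
  unfold F
  apply Nat.card_congr
  apply Equiv.subtypeEquivRight
  intro x
  constructor
  · intro h
    have := congrArg Subtype.val h
    simpa using this
  · intro h
    apply Subtype.ext
    simpa using h

theorem card_grp {n : ℕ} (hn128 : n ≤ 128) {gd : List DP} {pairs : List (ℕ × ℕ)}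
    (hv : ∀ g ∈ gd, Valid n g)
    (hc : checkClosed n gd (build n gd pairs) = true)
    (hn : nodupB (build n gd pairs) = true)
    (tbl : List (ℕ × ℕ)) (ht : statTbl n (build n gd pairs) = tbl)
    (hlen : (build n gd pairs).length = fval tbl 84) :
    Nat.card (grp n gd) = fval tbl 84 := by
  rw [← F_card 84 (pow84_grp hn128 hc tbl ht hlen)]
  exact F_grp hn128 hv hc hn tbl ht hlen 84

end Cfsg.Agent.H2.OT
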