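import Mathlib
import Cfsg.Agent.H2.OrdType.Stats

/-! generated data: a permutation group of order 7 on 7 points -/

namespace Cfsg.Agent.H2.OT.G02

def n : ℕ := 7

def gd : List DP := [17695804228357]

def pairs : List (ℕ × ℕ) := [(0, 0), (0, 0), (0, 0), (0, 0), (0, 0), (0, 0)]

def tbl : List (ℕ × ℕ) := [(1, 1), (2, 1), (3, 1), (4, 1), (6, 1), (7, 7), (12, 1), (14, 7), (21, 7), (28, 7), (42, 7), (84, 7)]

theorem n_le : n ≤ 128 := by decide

theorem valid : ∀ g ∈ gd, Valid n g := by decide +kernel

set_option maxRecDepth 1000000 in
theorem closed : checkClosed n gd (build n gd pairs) = true := by decide +kernel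

set_option maxRecDepth 1000000 in
theorem nodup : nodupB (build n gd pairs) = true := by decide +kernel

set_option maxRecDepth 1000000 in
theorem len : (build n gd pairs).length = fval tbl 84 := by decide +kernel

set_option maxRecDepth 1000000 in
theorem stats : statTbl n (build n gd pairs) = tbl := by decide +kernel

/-- the group -/
abbrev X : Type := grp n gd

theorem F_X (d : ℕ) : F X d = fval tbl d :=
  F_grp n_le valid closed nodup tbl stats len d

theorem card_X : Nat.card X = 7 := by
  rw [show X = grp n gd from rfl, card_grp n_le valid closed nodup tbl stats len]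
  rfl

end Cfsg.Agent.H2.OT.G02
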