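import Mathlib
import Cfsg.Agent.H2.OrdType.Stats

/-! generated data: a permutation group of order 98 on 14 points -/

namespace Cfsg.Agent.H2.OT.G16

def n : ℕ := 14

def gd : List DP := [19944419094102002271141249030,
  32420228941294827371487101314,
  22478025398789356477449601025]

def pairs : List (ℕ × ℕ) := [(0, 0), (1, 1), (2, 2), (0, 2), (1, 3), (2, 4), (1, 4), (2, 5), (0, 5), (1, 6), (0, 6), (1, 7),
  (2, 8), (1, 8), (2, 9), (1, 9), (1, 9), (2, 10), (0, 10), (0, 10), (1, 11), (2, 12), (1, 12), (2, 13),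
  (0, 13), (1, 14), (2, 15), (1, 15), (2, 16), (1, 16), (1, 16), (2, 17), (1, 16), (2, 17), (1, 17), (2, 18),
  (0, 18), (0, 18), (2, 19), (0, 19), (1, 20), (2, 21), (1, 21), (2, 22), (1, 21), (2, 22), (1, 21), (1, 21),
  (2, 22), (1, 22), (1, 22), (2, 23), (1, 22), (2, 23), (1, 23), (2, 24), (1, 23), (2, 24), (0, 22), (0, 22),
  (2, 23), (0, 23), (2, 24), (1, 23), (1, 23), (2, 24), (1, 23), (2, 24), (1, 21), (1, 21), (2, 22), (1, 21),
  (2, 22), (1, 22), (2, 23), (1, 22), (2, 23), (0, 18), (2, 19), (0, 19), (2, 20), (1, 17), (2, 18), (1, 18),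
  (2, 19), (2, 18), (1, 17), (1, 17), (2, 18), (1, 17), (2, 18), (0, 13), (2, 14), (1, 11), (2, 12), (2, 11),
  (1, 9)]

def tbl : List (ℕ × ℕ) := [(1, 1), (2, 50), (3, 1), (4, 50), (6, 50), (7, 49), (12, 50), (14, 98), (21, 49), (28, 98), (42, 98), (84, 98)]

theorem n_le : n ≤ 128 := by decide

theorem valid : ∀ g ∈ gd, Valid n g := by decide +kernel

set_option maxRecDepth 1000000 in
theorem closed : checkClosed n gd (build n gd pairs) = true := by decide +kernel

set_option maxRecDepth 1000000 in
theorem nodup : nodupB (build n gd pairs) = true := by decide +kernel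

set_option maxRecDepth 1000000 in
theorem len : (build n gd pairs).length = fval tbl 84 := by decide +kernel

set_option maxRecDepth 1000000 in
theorem stats : statTbl n (build n gd pairs) = tbl := by decide +kernel

/-- the group -/
abbrev X : Type := grp n gd

theorem F_X (d : ℕ) : F X d = fval tbl d :=
  F_grp n_le valid closed nodup tbl stats len d

theorem card_X : Nat.card X = 98 := by
  rw [show X = grp n gd from rfl, card_grp n_le valid closed nodup tbl stats len]
  rfl

end Cfsg.Agent.H2.OT.G16
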