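import Mathlib
import Cfsg.Agent.H2.OrdType.Stats

/-! generated data: a permutation group of order 224 on 15 points -/

namespace Cfsg.Agent.H2.OT.G19

def n : ℕ := 15

def gd : List DP := [4154760558590242911833827590150,
  3830459254946967843556162618112,
  4469197329740026233773705183489]

def pairs : List (ℕ × ℕ) := [(0, 0), (1, 1), (2, 2), (0, 2), (1, 3), (2, 4), (0, 4), (1, 5), (2, 6), (1, 6), (2, 7), (0, 7),
  (1, 8), (2, 9), (0, 9), (1, 10), (2, 11), (1, 11), (2, 12), (0, 12), (1, 13), (2, 14), (1, 14), (2, 15),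
  (0, 14), (2, 14), (0, 14), (1, 15), (2, 16), (0, 16), (1, 17), (2, 18), (1, 18), (0, 18), (1, 19), (2, 20),
  (1, 20), (2, 21), (0, 20), (2, 20), (0, 20), (1, 21), (2, 22), (1, 22), (2, 23), (1, 23), (0, 21), (2, 21),
  (0, 21), (1, 22), (2, 23), (0, 23), (1, 24), (2, 25), (1, 25), (1, 25), (2, 26), (1, 26), (2, 27), (0, 26),
  (0, 26), (1, 27), (2, 28), (1, 28), (2, 29), (1, 29), (0, 27), (2, 27), (0, 27), (1, 28), (2, 29), (1, 29),
  (2, 30), (1, 29), (0, 27), (2, 27), (0, 27), (1, 28), (2, 29), (0, 29), (1, 30), (2, 31), (1, 31), (1, 31),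
  (2, 32), (1, 32), (2, 33), (0, 32), (1, 32), (2, 33), (1, 33), (0, 30), (1, 31), (2, 32), (1, 32), (2, 33),
  (1, 32), (0, 30), (2, 30), (0, 30), (1, 31), (2, 32), (1, 32), (2, 33), (1, 33), (0, 30), (2, 30), (0, 30),
  (1, 31), (2, 32), (0, 32), (1, 33), (2, 34), (1, 34), (1, 34), (2, 35), (1, 35), (2, 36), (0, 35), (1, 35),
  (2, 36), (1, 36), (1, 33), (0, 31), (1, 32), (2, 33), (1, 33), (2, 34), (1, 34), (0, 31), (2, 31), (0, 31),
  (1, 32), (2, 33), (1, 33), (2, 34), (1, 33), (0, 31), (2, 31), (1, 31), (2, 32), (0, 32), (1, 33), (2, 34),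
  (1, 34), (1, 34), (2, 35), (1, 35), (2, 36), (0, 35), (1, 35), (2, 36), (1, 36), (1, 33), (0, 30), (1, 31),
  (2, 32), (1, 32), (2, 33), (1, 32), (0, 30), (2, 30), (0, 30), (1, 31), (2, 32), (1, 32), (2, 33), (1, 33),
  (0, 30), (0, 29), (1, 30), (2, 31), (1, 31), (1, 31), (2, 32), (1, 32), (2, 33), (0, 32), (1, 32), (2, 33),
  (1, 33), (1, 30), (0, 27), (1, 28), (2, 29), (1, 29), (2, 30), (1, 30), (0, 27), (1, 26), (2, 27), (1, 27),
  (2, 28), (1, 27), (0, 25), (1, 25), (2, 26), (1, 26), (2, 27), (0, 26), (1, 26), (2, 27), (1, 27), (1, 24),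
  (1, 21), (2, 22), (1, 22), (2, 23), (1, 22), (0, 20), (1, 20), (2, 21), (1, 21), (1, 17), (2, 18), (1, 18),
  (1, 15), (1, 12), (2, 13), (1, 13), (1, 9), (1, 7), (1, 4)]

def tbl : List (ℕ × ℕ) := [(1, 1), (2, 44), (3, 1), (4, 128), (6, 44), (7, 7), (12, 128), (14, 140), (21, 7), (28, 224), (42, 140), (84, 224)]

theorem n_le : n ≤ 128 := by decide

theorem valid : ∀ g ∈ gd, Valid n g := by decide +kernel

set_option maxRecDepth 1000000 in
theorem closed : checkClosed n gd (build n gd pairs) = true := by decide +kernel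

set_option maxRecDepth 1000000 in
theorem nodup : nodupB (build n gd pairs) = true := by decide +kernel

set_option maxRecDepth 1000000 in
theorem len : (build n gd pairs).length = fval tbl 84 := by decide +kernel

set_option maxRecDepth 1000000 in
theorem stats : statTbl n (build n gd pairs) = tbl := by decide +kernel

/-- the group -/
abbrev X : Type := grp n gd

theorem F_X (d : ℕ) : F X d = fval tbl d :=
  F_grp n_le valid closed nodup tbl stats len d

theorem card_X : Nat.card X = 224 := by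
  rw [show X = grp n gd from rfl, card_grp n_le valid closed nodup tbl stats len]
  rfl

end Cfsg.Agent.H2.OT.G19
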