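import Mathlib
import Cfsg.Agent.H2.OrdType.Stats

/-! generated data: a permutation group of order 294 on 14 points -/

namespace Cfsg.Agent.H2.OT.G20

def n : ℕ := 14

def gd : List DP := [24934103414467791979855053314,
  29963084851891228060229304450]

def pairs : List (ℕ × ℕ) := [(0, 0), (1, 1), (0, 1), (1, 2), (0, 2), (0, 2), (1, 3), (0, 3), (0, 3), (1, 4), (0, 4), (1, 5),
  (0, 5), (0, 5), (1, 6), (0, 6), (1, 7), (0, 7), (0, 7), (1, 8), (0, 8), (0, 8), (1, 9), (0, 9),
  (1, 10), (0, 10), (0, 10), (1, 11), (0, 11), (0, 11), (1, 12), (0, 12), (1, 13), (0, 13), (0, 13), (1, 14),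
  (0, 14), (1, 15), (0, 15), (0, 15), (1, 16), (0, 16), (0, 16), (1, 17), (0, 17), (1, 18), (0, 17), (1, 18),
  (1, 18), (0, 18), (0, 18), (1, 19), (0, 19), (0, 19), (1, 20), (1, 20), (0, 20), (0, 20), (1, 21), (0, 21),
  (0, 21), (1, 22), (0, 22), (1, 23), (0, 22), (1, 23), (1, 23), (0, 23), (0, 23), (1, 24), (0, 24), (0, 23),
  (0, 23), (0, 23), (1, 24), (0, 24), (1, 25), (0, 25), (0, 25), (1, 26), (1, 26), (0, 26), (0, 26), (0, 26),
  (1, 27), (0, 27), (1, 28), (0, 27), (1, 28), (1, 28), (0, 28), (0, 28), (1, 29), (0, 29), (0, 28), (0, 28),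
  (0, 28), (0, 28), (1, 29), (0, 29), (0, 29), (1, 30), (0, 30), (1, 31), (0, 31), (1, 32), (1, 32), (0, 31),
  (1, 32), (0, 32), (0, 32), (1, 33), (1, 33), (0, 33), (0, 33), (1, 33), (0, 33), (1, 34), (1, 34), (0, 34),
  (0, 34), (1, 35), (0, 35), (0, 34), (0, 34), (0, 34), (0, 34), (1, 35), (0, 35), (0, 35), (1, 36), (0, 36),
  (1, 37), (0, 37), (1, 38), (1, 38), (0, 38), (1, 39), (0, 38), (1, 39), (1, 39), (0, 39), (1, 39), (0, 39),
  (0, 38), (0, 38), (0, 38), (1, 39), (0, 39), (0, 39), (1, 39), (0, 39), (1, 38), (0, 38), (1, 39), (0, 39),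
  (0, 38), (0, 38), (0, 38), (0, 38), (1, 39), (0, 39), (0, 39), (1, 40), (0, 40), (1, 41), (0, 41), (1, 42),
  (1, 42), (0, 42), (1, 43), (0, 42), (1, 43), (1, 43), (0, 43), (1, 43), (0, 43), (0, 42), (0, 42), (0, 42),
  (1, 43), (0, 41), (0, 41), (1, 41), (0, 41), (0, 41), (0, 41), (1, 42), (0, 42), (0, 42), (1, 43), (0, 43),
  (0, 43), (1, 43), (1, 42), (0, 42), (0, 41), (0, 41), (0, 41), (1, 42), (0, 42), (1, 43), (1, 43), (0, 43),
  (1, 42), (1, 42), (0, 42), (1, 42), (0, 42), (0, 41), (0, 41), (0, 41), (0, 39), (0, 39), (0, 38), (0, 38),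
  (1, 38), (0, 38), (0, 38), (1, 39), (1, 38), (0, 38), (1, 39), (0, 38), (1, 39), (0, 37), (1, 36), (0, 36),
  (0, 36), (0, 33), (0, 33), (1, 34), (1, 34), (1, 34), (0, 34), (0, 33), (0, 33), (0, 33), (0, 33), (0, 33),
  (0, 32), (1, 31), (0, 31), (0, 31), (1, 32), (1, 32), (0, 32), (1, 33), (0, 33), (1, 34), (0, 33), (0, 32),
  (1, 33), (0, 32), (0, 31), (0, 30), (0, 29), (0, 29), (1, 28), (1, 28), (0, 27), (0, 27), (1, 26), (0, 26),
  (0, 26), (1, 27), (1, 27), (0, 27), (1, 28), (0, 28), (1, 29), (0, 29), (0, 28), (1, 29), (0, 28), (0, 27),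
  (0, 26), (1, 25), (0, 24), (0, 24), (1, 24), (0, 24), (0, 22), (0, 21), (1, 22), (0, 22), (0, 21), (0, 20),
  (0, 19), (0, 18), (0, 15), (1, 8), (0, 7)]

def tbl : List (ℕ × ℕ) := [(1, 1), (2, 50), (3, 15), (4, 50), (6, 162), (7, 49), (12, 162), (14, 98), (21, 147), (28, 98), (42, 294), (84, 294)]

theorem n_le : n ≤ 128 := by decide

theorem valid : ∀ g ∈ gd, Valid n g := by decide +kernel

set_option maxRecDepth 1000000 in
theorem closed : checkClosed n gd (build n gd pairs) = true := by decide +kernel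

set_option maxRecDepth 1000000 in
theorem nodup : nodupB (build n gd pairs) = true := by decide +kernel

set_option maxRecDepth 1000000 in
theorem len : (build n gd pairs).length = fval tbl 84 := by decide +kernel

set_option maxRecDepth 1000000 in
theorem stats : statTbl n (build n gd pairs) = tbl := by decide +kernel

/-- the group -/
abbrev X : Type := grp n gd

theorem F_X (d : ℕ) : F X d = fval tbl d :=
  F_grp n_le valid closed nodup tbl stats len d

theorem card_X : Nat.card X = 294 := by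
  rw [show X = grp n gd from rfl, card_grp n_le valid closed nodup tbl stats len]
  rfl

end Cfsg.Agent.H2.OT.G20
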