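import Mathlib
import Cfsg.Agent.H2.OrdType.Stats

/-! generated data: a permutation group of order 504 on 14 points -/

namespace Cfsg.Agent.H2.OT.G23

def n : ℕ := 14

def gd : List DP := [29963688134064749644785713155,
  27487960333509847917510311940,
  32420225390370361787786756224]

def pairs : List (ℕ × ℕ) := [(0, 0), (1, 1), (2, 2), (0, 2), (1, 3), (2, 4), (0, 4), (1, 5), (2, 6), (0, 5), (1, 6), (2, 7),
  (0, 7), (1, 8), (2, 9), (0, 8), (1, 9), (2, 10), (0, 10), (1, 11), (2, 12), (0, 11), (1, 12), (2, 13),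
  (0, 13), (1, 14), (2, 15), (0, 14), (1, 15), (2, 16), (0, 16), (1, 17), (2, 18), (0, 17), (1, 18), (2, 19),
  (0, 19), (1, 20), (2, 21), (0, 20), (1, 21), (2, 22), (0, 22), (1, 23), (2, 24), (0, 23), (1, 24), (2, 25),
  (0, 25), (1, 26), (2, 27), (0, 26), (1, 27), (2, 28), (0, 28), (1, 29), (2, 30), (0, 29), (1, 30), (2, 31),
  (0, 31), (1, 32), (2, 33), (0, 32), (1, 33), (2, 34), (0, 34), (1, 35), (2, 36), (0, 35), (1, 36), (2, 37),
  (0, 37), (1, 38), (2, 39), (0, 38), (1, 39), (2, 40), (0, 40), (1, 41), (2, 42), (0, 41), (1, 42), (2, 43),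
  (0, 43), (1, 44), (2, 45), (0, 44), (1, 45), (2, 46), (0, 46), (1, 47), (2, 48), (1, 47), (2, 48), (0, 48),
  (1, 49), (2, 50), (0, 49), (1, 50), (2, 51), (0, 51), (1, 52), (2, 53), (0, 52), (1, 53), (2, 54), (0, 54),
  (1, 55), (2, 56), (0, 55), (1, 56), (2, 57), (0, 57), (1, 58), (2, 59), (0, 58), (1, 59), (2, 60), (0, 60),
  (1, 61), (2, 62), (0, 61), (1, 62), (2, 63), (0, 63), (1, 64), (2, 65), (0, 64), (1, 65), (2, 66), (0, 66),
  (1, 67), (2, 68), (0, 67), (1, 68), (2, 69), (0, 69), (1, 70), (2, 71), (0, 70), (2, 71), (0, 71), (1, 72),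
  (2, 73), (1, 72), (2, 73), (0, 73), (2, 74), (1, 73), (2, 74), (0, 74), (1, 75), (2, 76), (1, 75), (2, 76),
  (0, 76), (1, 77), (2, 78), (0, 77), (2, 78), (0, 78), (1, 79), (2, 80), (1, 79), (2, 80), (0, 80), (2, 81),
  (0, 80), (2, 81), (0, 81), (1, 82), (2, 83), (0, 82), (2, 83), (0, 83), (2, 84), (0, 83), (1, 84), (0, 83),
  (1, 84), (2, 85), (0, 85), (1, 86), (2, 87), (0, 86), (1, 87), (0, 87), (1, 88), (2, 89), (0, 88), (1, 89),
  (2, 90), (0, 90), (1, 91), (0, 90), (1, 91), (0, 91), (1, 92), (2, 93), (0, 92), (1, 93), (2, 94), (0, 94),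
  (1, 95), (2, 96), (0, 95), (1, 96), (0, 96), (1, 97), (2, 98), (0, 97), (1, 98), (2, 99), (0, 99), (1, 100),
  (2, 101), (0, 100), (2, 101), (0, 101), (1, 102), (1, 101), (2, 102), (0, 102), (2, 103), (1, 102), (0, 102), (1, 103),
  (2, 104), (1, 103), (2, 104), (0, 104), (1, 105), (0, 104), (2, 105), (0, 105), (1, 106), (1, 105), (2, 106), (0, 106),
  (2, 107), (0, 106), (2, 107), (0, 107), (1, 108), (0, 107), (2, 108), (0, 104), (2, 105), (0, 105), (2, 106), (0, 105),
  (0, 104), (1, 105), (1, 104), (1, 103), (2, 104), (0, 104), (2, 105), (0, 104), (0, 103), (2, 104), (0, 104), (2, 105),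
  (0, 104), (1, 103), (2, 104), (0, 104), (2, 105), (0, 104), (1, 103), (0, 102), (2, 101), (0, 101), (2, 102), (0, 101),
  (0, 100), (0, 99), (1, 100), (0, 100), (1, 101), (0, 101), (1, 102), (0, 102), (1, 103), (0, 102), (1, 103), (2, 104),
  (0, 104), (1, 105), (0, 104), (1, 105), (0, 105), (1, 106), (0, 106), (1, 107), (2, 108), (0, 108), (1, 109), (0, 108),
  (1, 109), (0, 109), (1, 110), (2, 111), (0, 110), (1, 111), (0, 111), (1, 112), (0, 112), (0, 112), (1, 113), (1, 113),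
  (0, 113), (2, 114), (1, 113), (0, 113), (1, 114), (2, 115), (1, 114), (2, 115), (0, 115), (1, 116), (0, 115), (0, 115),
  (1, 116), (1, 116), (2, 117), (0, 117), (0, 116), (2, 117), (0, 117), (1, 118), (0, 117), (2, 118), (0, 114), (0, 114),
  (0, 114), (0, 113), (1, 114), (1, 113), (1, 113), (2, 114), (0, 114), (0, 113), (0, 111), (0, 111), (1, 110), (0, 110),
  (0, 110), (1, 109), (0, 108), (0, 106), (0, 106), (1, 103), (1, 102), (0, 102), (1, 102), (1, 101), (0, 97), (1, 89),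
  (0, 88), (0, 83), (1, 84), (0, 84), (1, 85), (0, 85), (1, 86), (0, 86), (1, 87), (0, 87), (1, 88), (0, 88),
  (1, 89), (0, 89), (1, 90), (0, 90), (1, 91), (0, 91), (1, 92), (0, 92), (1, 93), (2, 94), (0, 93), (1, 94),
  (0, 94), (1, 95), (0, 95), (0, 95), (1, 96), (1, 96), (0, 96), (0, 95), (1, 96), (2, 97), (1, 96), (0, 96),
  (1, 97), (0, 97), (0, 97), (1, 98), (1, 98), (0, 98), (0, 96), (1, 97), (0, 97), (0, 95), (0, 95), (0, 95),
  (0, 95), (1, 96), (1, 95), (1, 95), (0, 95), (0, 91), (0, 91), (1, 91), (0, 91), (0, 91), (1, 90), (0, 90),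
  (0, 88), (0, 88), (1, 86), (1, 86), (0, 86), (1, 86), (1, 85), (1, 78), (0, 77), (1, 75), (0, 72), (0, 69),
  (1, 70), (0, 70), (1, 71), (0, 71), (1, 72), (0, 72), (1, 73), (0, 73), (1, 74), (0, 74), (1, 75), (0, 75),
  (1, 76), (0, 76), (1, 77), (0, 77), (0, 77), (1, 78), (0, 77), (0, 76), (1, 77), (1, 77), (0, 77), (1, 78),
  (0, 78), (0, 78), (1, 79), (0, 78), (0, 76), (1, 77), (0, 77), (0, 75), (0, 75), (0, 75), (0, 75), (1, 76),
  (1, 76), (0, 72), (0, 72), (1, 72), (0, 72), (0, 72), (1, 72), (0, 70), (1, 68), (0, 68), (1, 68), (1, 67),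
  (1, 62), (0, 61), (1, 59), (0, 50), (1, 51), (0, 48), (1, 49), (0, 48), (1, 49), (0, 48), (1, 49), (0, 46),
  (1, 47), (0, 43), (0, 43), (1, 44), (1, 44), (0, 41), (0, 41), (0, 40), (1, 40), (0, 38), (1, 34)]

def tbl : List (ℕ × ℕ) := [(1, 1), (2, 22), (3, 45), (4, 64), (6, 306), (7, 7), (12, 432), (14, 70), (21, 63), (28, 112), (42, 378), (84, 504)]

theorem n_le : n ≤ 128 := by decide

theorem valid : ∀ g ∈ gd, Valid n g := by decide +kernel

set_option maxRecDepth 1000000 in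
theorem closed : checkClosed n gd (build n gd pairs) = true := by decide +kernel

set_option maxRecDepth 1000000 in
theorem nodup : nodupB (build n gd pairs) = true := by decide +kernel

set_option maxRecDepth 1000000 in
theorem len : (build n gd pairs).length = fval tbl 84 := by decide +kernel

set_option maxRecDepth 1000000 in
theorem stats : statTbl n (build n gd pairs) = tbl := by decide +kernel

/-- the group -/
abbrev X : Type := grp n gd

theorem F_X (d : ℕ) : F X d = fval tbl d :=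
  F_grp n_le valid closed nodup tbl stats len d

theorem card_X : Nat.card X = 504 := by
  rw [show X = grp n gd from rfl, card_grp n_le valid closed nodup tbl stats len]
  rfl

end Cfsg.Agent.H2.OT.G23
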