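import Mathlib
import Cfsg.Agent.H2.OrdType.Stats

/-! generated data: a permutation group of order 672 on 15 points -/

namespace Cfsg.Agent.H2.OT.G25

def n : ℕ := 15

def gd : List DP := [4147333371683410347919386182276,
  4469178135690680562645628633347]

def pairs : List (ℕ × ℕ) := [(0, 0), (1, 1), (0, 1), (1, 2), (0, 2), (1, 3), (0, 3), (1, 4), (0, 4), (1, 5), (0, 5), (1, 6),
  (0, 6), (1, 7), (0, 7), (1, 8), (0, 8), (1, 9), (0, 9), (1, 10), (0, 10), (1, 11), (0, 11), (1, 12),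
  (0, 12), (1, 13), (0, 13), (1, 14), (0, 14), (0, 14), (1, 15), (0, 15), (1, 16), (0, 16), (1, 17), (0, 17),
  (1, 18), (0, 18), (1, 19), (0, 19), (1, 20), (0, 20), (1, 21), (0, 21), (0, 21), (1, 22), (0, 22), (1, 23),
  (0, 23), (1, 24), (0, 24), (1, 25), (1, 25), (1, 25), (0, 25), (1, 26), (0, 26), (1, 27), (0, 27), (1, 28),
  (0, 28), (1, 29), (0, 29), (1, 30), (0, 30), (1, 31), (0, 31), (1, 32), (0, 32), (1, 33), (0, 33), (0, 33),
  (1, 34), (0, 34), (1, 35), (0, 35), (1, 36), (0, 36), (1, 37), (1, 37), (0, 36), (1, 37), (0, 37), (1, 38),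
  (0, 38), (1, 39), (0, 39), (1, 40), (0, 40), (1, 41), (1, 41), (0, 41), (1, 42), (0, 42), (1, 43), (0, 43),
  (0, 43), (1, 43), (1, 43), (1, 43), (0, 43), (1, 44), (0, 44), (1, 45), (0, 45), (1, 46), (0, 46), (1, 47),
  (1, 47), (0, 47), (1, 48), (0, 48), (1, 49), (0, 49), (0, 49), (1, 50), (0, 50), (1, 51), (0, 51), (1, 52),
  (0, 52), (1, 53), (1, 53), (1, 52), (0, 52), (1, 53), (0, 53), (1, 54), (0, 54), (1, 55), (0, 55), (1, 56),
  (1, 56), (1, 56), (0, 56), (1, 57), (0, 57), (0, 57), (1, 57), (1, 57), (0, 57), (1, 58), (0, 58), (1, 59),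
  (0, 59), (0, 59), (1, 60), (0, 59), (1, 60), (0, 60), (1, 61), (0, 61), (0, 60), (1, 61), (0, 61), (1, 61),
  (0, 60), (0, 58), (1, 58), (0, 58), (1, 59), (0, 59), (1, 60), (0, 60), (1, 61), (0, 61), (1, 62), (1, 62),
  (0, 62), (1, 63), (0, 63), (1, 64), (0, 64), (0, 64), (1, 65), (0, 65), (1, 66), (0, 66), (1, 67), (1, 67),
  (1, 66), (0, 66), (1, 67), (0, 67), (0, 67), (1, 68), (0, 68), (1, 68), (1, 68), (0, 68), (0, 68), (0, 68),
  (0, 67), (1, 68), (1, 68), (0, 68), (0, 68), (1, 69), (0, 68), (1, 69), (0, 69), (0, 69), (0, 68), (1, 68),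
  (0, 67), (0, 66), (0, 65), (1, 66), (0, 66), (1, 67), (0, 67), (1, 68), (0, 68), (1, 69), (0, 68), (1, 69),
  (0, 68), (1, 69), (1, 69), (1, 69), (1, 68), (1, 68), (1, 67), (1, 66), (0, 64), (1, 65), (0, 65), (1, 66),
  (0, 66), (1, 67), (0, 67), (1, 68), (1, 68), (0, 68), (1, 69), (0, 69), (1, 70), (0, 70), (0, 70), (1, 71),
  (0, 71), (1, 72), (0, 72), (1, 73), (1, 73), (1, 72), (0, 72), (1, 73), (0, 73), (1, 73), (1, 73), (0, 73),
  (0, 73), (0, 73), (0, 72), (1, 73), (1, 73), (0, 71), (0, 71), (0, 70), (0, 69), (0, 68), (1, 69), (0, 69),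
  (1, 70), (0, 70), (1, 71), (0, 70), (1, 71), (0, 70), (1, 70), (1, 70), (1, 70), (1, 70), (1, 69), (0, 68),
  (1, 69), (0, 69), (1, 70), (1, 70), (0, 70), (1, 71), (0, 70), (1, 71), (0, 71), (1, 72), (0, 72), (1, 72),
  (1, 70), (0, 70), (0, 65), (1, 66), (0, 66), (1, 67), (0, 67), (1, 68), (0, 68), (1, 69), (1, 69), (0, 69),
  (1, 70), (0, 70), (1, 71), (0, 71), (0, 71), (1, 72), (0, 72), (1, 73), (0, 73), (1, 74), (1, 74), (1, 73),
  (0, 73), (1, 74), (1, 73), (1, 73), (0, 72), (0, 72), (0, 67), (0, 66), (0, 65), (1, 66), (0, 66), (1, 67),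
  (0, 67), (1, 68), (1, 67), (1, 67), (1, 67), (0, 67), (1, 68), (0, 68), (1, 69), (1, 69), (0, 69), (1, 70),
  (0, 70), (1, 71), (1, 70), (0, 63), (1, 64), (0, 64), (1, 65), (0, 65), (0, 65), (1, 66), (0, 66), (1, 67),
  (0, 67), (1, 68), (0, 68), (0, 68), (1, 69), (0, 69), (1, 69), (0, 67), (0, 67), (0, 67), (0, 67), (1, 68),
  (0, 68), (1, 69), (0, 69), (1, 70), (0, 70), (1, 71), (1, 71), (0, 71), (1, 72), (0, 72), (1, 73), (0, 73),
  (0, 73), (1, 74), (0, 74), (1, 75), (0, 75), (1, 76), (1, 76), (1, 75), (0, 75), (1, 76), (1, 75), (1, 75),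
  (0, 74), (0, 74), (0, 70), (0, 70), (1, 69), (1, 69), (0, 69), (1, 70), (0, 68), (0, 68), (0, 64), (1, 65),
  (1, 65), (0, 64), (1, 65), (0, 65), (1, 66), (0, 66), (0, 66), (1, 66), (0, 65), (0, 65), (1, 66), (0, 66),
  (1, 67), (0, 67), (1, 68), (0, 68), (1, 69), (0, 68), (1, 69), (0, 68), (1, 69), (1, 69), (1, 69), (1, 68),
  (1, 68), (0, 62), (1, 63), (0, 63), (1, 64), (0, 64), (1, 65), (0, 65), (1, 66), (1, 66), (0, 66), (1, 67),
  (0, 67), (1, 68), (0, 68), (0, 68), (1, 69), (0, 69), (1, 70), (0, 70), (1, 71), (1, 71), (1, 70), (0, 70),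
  (1, 71), (1, 70), (1, 70), (0, 69), (0, 69), (0, 65), (0, 65), (1, 64), (1, 64), (0, 62), (1, 63), (1, 63),
  (0, 63), (0, 62), (1, 63), (0, 63), (1, 64), (0, 64), (1, 65), (0, 65), (1, 66), (0, 65), (1, 64), (0, 61),
  (1, 62), (0, 62), (1, 63), (1, 63), (0, 63), (1, 64), (0, 63), (1, 64), (0, 64), (1, 65), (0, 65), (1, 65),
  (1, 63), (0, 63), (0, 60), (0, 60), (1, 61), (0, 61), (1, 62), (0, 62), (1, 63), (1, 63), (0, 63), (1, 64),
  (0, 64), (1, 65), (0, 65), (0, 65), (1, 66), (0, 66), (1, 67), (0, 67), (1, 68), (1, 68), (1, 67), (0, 67),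
  (1, 68), (1, 67), (1, 67), (0, 66), (0, 66), (0, 62), (0, 62), (1, 61), (1, 61), (0, 59), (1, 60), (0, 60),
  (1, 61), (0, 61), (1, 62), (1, 62), (0, 62), (1, 63), (0, 63), (1, 64), (1, 64), (0, 64), (1, 65), (0, 65),
  (1, 66), (1, 65), (1, 62), (0, 62), (1, 63), (0, 63), (0, 63), (0, 63), (1, 64), (0, 64), (1, 65), (0, 65),
  (0, 65), (1, 66), (0, 66), (1, 66), (0, 64), (0, 64), (0, 64), (0, 63), (1, 64), (1, 64), (1, 64), (0, 64),
  (1, 65), (1, 65), (0, 65), (0, 65), (1, 66), (0, 66), (1, 67), (0, 67), (1, 68), (1, 68), (1, 67), (0, 67),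
  (1, 68), (1, 67), (1, 67), (0, 66), (0, 66), (0, 62), (0, 62), (1, 61), (1, 61), (0, 59), (1, 60), (0, 58),
  (0, 58), (1, 56), (1, 56), (0, 55), (0, 55), (1, 56), (0, 56), (0, 56), (1, 56), (0, 55), (0, 55), (1, 56),
  (0, 56), (1, 57), (0, 57), (1, 58), (0, 57), (1, 58), (0, 58), (1, 59), (1, 59), (1, 59), (1, 58), (1, 58),
  (1, 52), (0, 52), (1, 53), (0, 53), (0, 53), (1, 54), (0, 54), (0, 54), (1, 55), (1, 54), (0, 54), (1, 55),
  (1, 54), (1, 54), (0, 53), (0, 53), (0, 49), (0, 49), (1, 48), (1, 48), (1, 46), (1, 46), (0, 46), (0, 45),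
  (1, 46), (0, 46), (1, 47), (0, 47), (1, 48), (0, 48), (1, 47), (1, 44), (1, 44), (1, 43), (0, 42), (1, 42),
  (1, 40), (0, 40), (0, 37), (1, 38), (0, 38), (0, 38), (1, 39), (1, 39), (0, 39), (1, 40), (1, 39), (0, 33),
  (0, 33), (1, 32), (1, 32), (0, 30), (1, 31), (0, 31), (1, 32), (1, 32), (1, 32), (1, 32), (1, 30), (0, 27),
  (0, 27), (0, 27), (0, 26), (0, 26), (0, 26), (1, 26), (1, 17), (0, 10), (0, 10), (0, 10), (1, 9)]

def tbl : List (ℕ × ℕ) := [(1, 1), (2, 100), (3, 33), (4, 352), (6, 132), (7, 7), (12, 384), (14, 196), (21, 231), (28, 448), (42, 420), (84, 672)]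

theorem n_le : n ≤ 128 := by decide

theorem valid : ∀ g ∈ gd, Valid n g := by decide +kernel

set_option maxRecDepth 1000000 in
theorem closed : checkClosed n gd (build n gd pairs) = true := by decide +kernel

set_option maxRecDepth 1000000 in
theorem nodup : nodupB (build n gd pairs) = true := by decide +kernel

set_option maxRecDepth 1000000 in
theorem len : (build n gd pairs).length = fval tbl 84 := by decide +kernel

set_option maxRecDepth 1000000 in
theorem stats : statTbl n (build n gd pairs) = tbl := by decide +kernel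

/-- the group -/
abbrev X : Type := grp n gd

theorem F_X (d : ℕ) : F X d = fval tbl d :=
  F_grp n_le valid closed nodup tbl stats len d

theorem card_X : Nat.card X = 672 := by
  rw [show X = grp n gd from rfl, card_grp n_le valid closed nodup tbl stats len]
  rfl

end Cfsg.Agent.H2.OT.G25
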