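import Mathlib
import Cfsg.Agent.H2.OrdType.Stats

/-! generated data: a permutation group of order 672 on 15 points -/

namespace Cfsg.Agent.H2.OT.G26

def n : ℕ := 15

def gd : List DP := [4154682886296434764845699563906,
  4469197329740096602551431004550,
  2882080832855733914195021889664]

def pairs : List (ℕ × ℕ) := [(0, 0), (1, 1), (2, 2), (1, 2), (2, 3), (2, 3), (0, 3), (1, 4), (2, 5), (2, 5), (0, 5), (1, 6),
  (2, 7), (0, 7), (1, 8), (2, 9), (1, 9), (2, 10), (2, 10), (0, 10), (1, 11), (0, 11), (1, 12), (2, 13),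
  (1, 13), (2, 14), (2, 14), (0, 14), (1, 15), (1, 15), (2, 16), (0, 15), (2, 15), (0, 15), (1, 16), (2, 17),
  (0, 17), (2, 18), (1, 18), (2, 19), (2, 19), (1, 19), (2, 20), (0, 19), (2, 19), (0, 19), (1, 20), (2, 21),
  (0, 21), (2, 22), (1, 22), (2, 23), (2, 23), (0, 22), (2, 23), (2, 23), (0, 23), (2, 24), (1, 24), (2, 25),
  (2, 25), (0, 25), (2, 25), (2, 24), (0, 24), (2, 25), (0, 23), (2, 24), (2, 24), (0, 24), (2, 25), (1, 25),
  (2, 26), (2, 26), (0, 26), (2, 26), (2, 25), (0, 25), (2, 26), (2, 25), (0, 25), (0, 25), (2, 26), (2, 26),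
  (0, 26), (2, 26), (0, 26), (2, 27), (0, 27), (2, 27), (0, 27), (2, 28), (0, 28), (2, 29), (2, 29), (0, 29),
  (2, 29), (0, 29), (0, 29), (2, 30), (2, 30), (0, 30), (2, 30), (0, 30), (2, 31), (0, 31), (2, 31), (0, 31),
  (2, 32), (0, 32), (2, 33), (2, 33), (0, 33), (0, 33), (2, 34), (2, 34), (2, 34), (0, 34), (0, 34), (2, 35),
  (2, 35), (0, 35), (2, 36), (0, 35), (2, 35), (0, 35), (2, 36), (2, 36), (0, 36), (2, 36), (0, 36), (0, 36),
  (2, 37), (2, 37), (0, 37), (2, 38), (2, 38), (2, 38), (0, 38), (0, 38), (2, 39), (2, 39), (0, 39), (2, 40),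
  (0, 39), (2, 39), (0, 39), (2, 40), (2, 40), (0, 40), (2, 40), (0, 40), (0, 40), (2, 41), (2, 41), (0, 40),
  (0, 40), (2, 41), (0, 41), (2, 42), (2, 42), (0, 41), (0, 41), (2, 42), (0, 41), (2, 41), (0, 41), (2, 42),
  (2, 42), (0, 42), (0, 42), (2, 43), (2, 43), (0, 43), (2, 44), (2, 44), (0, 43), (0, 43), (0, 42), (0, 42),
  (2, 43), (0, 43), (2, 44), (2, 44), (0, 43), (0, 43), (2, 44), (0, 43), (2, 43), (0, 43), (2, 44), (2, 44),
  (0, 44), (0, 44), (2, 45), (2, 45), (0, 45), (2, 46), (2, 46), (0, 45), (0, 45), (2, 45), (2, 45), (0, 45),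
  (0, 44), (0, 44), (2, 44), (2, 44), (0, 44), (2, 44), (0, 44), (2, 45), (2, 45), (0, 45), (0, 45), (2, 46),
  (2, 46), (0, 45), (0, 45), (0, 44), (0, 44), (2, 44), (2, 44), (2, 44), (2, 44), (0, 44), (0, 43), (0, 43),
  (2, 43), (2, 43), (0, 43), (2, 43), (0, 43), (2, 44), (2, 44), (0, 44), (0, 44), (2, 45), (2, 45), (0, 44),
  (0, 44), (0, 43), (0, 43), (2, 43), (2, 43), (0, 43), (2, 44), (0, 44), (2, 45), (2, 45), (2, 45), (2, 45),
  (0, 45), (2, 46), (0, 46), (2, 47), (2, 47), (0, 47), (2, 48), (2, 48), (0, 48), (0, 48), (2, 49), (2, 49),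
  (0, 48), (0, 48), (2, 48), (2, 48), (2, 48), (2, 48), (0, 48), (2, 49), (0, 49), (2, 50), (0, 50), (2, 51),
  (0, 51), (2, 52), (2, 52), (2, 52), (2, 52), (0, 52), (2, 53), (0, 53), (2, 54), (2, 54), (0, 54), (2, 55),
  (2, 55), (0, 55), (0, 55), (2, 56), (2, 56), (0, 55), (0, 55), (2, 55), (2, 55), (2, 55), (2, 55), (0, 55),
  (2, 56), (0, 56), (2, 57), (2, 57), (0, 57), (0, 56), (0, 56), (0, 56), (2, 57), (0, 57), (2, 58), (2, 58),
  (0, 58), (0, 57), (0, 57), (2, 57), (0, 57), (0, 57), (2, 58), (2, 58), (0, 57), (0, 57), (2, 57), (2, 57),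
  (0, 57), (2, 58), (0, 58), (2, 59), (0, 59), (2, 60), (0, 60), (2, 61), (2, 61), (0, 61), (0, 60), (2, 60),
  (0, 60), (0, 59), (0, 59), (0, 59), (2, 60), (0, 60), (2, 61), (2, 61), (0, 61), (0, 60), (0, 60), (2, 60),
  (0, 60), (0, 60), (2, 61), (2, 61), (0, 60), (0, 60), (2, 60), (2, 60), (0, 60), (2, 61), (0, 61), (2, 62),
  (0, 62), (2, 63), (0, 63), (2, 64), (2, 64), (0, 64), (0, 63), (0, 63), (2, 64), (2, 64), (2, 64), (2, 64),
  (2, 64), (0, 64), (0, 63), (0, 63), (2, 64), (2, 64), (2, 64), (2, 64), (0, 64), (2, 65), (2, 65), (0, 64),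
  (0, 64), (2, 64), (2, 64), (0, 64), (2, 65), (0, 65), (2, 66), (2, 66), (0, 66), (0, 65), (2, 65), (0, 65),
  (0, 64), (0, 64), (2, 65), (2, 65), (2, 65), (0, 65), (2, 66), (2, 66), (2, 66), (2, 66), (2, 66), (0, 66),
  (0, 65), (0, 65), (2, 66), (2, 66), (2, 66), (2, 66), (0, 66), (2, 67), (2, 67), (0, 66), (0, 66), (2, 66),
  (2, 66), (0, 66), (2, 67), (0, 67), (2, 68), (2, 68), (0, 68), (0, 67), (2, 67), (0, 67), (0, 66), (0, 66),
  (2, 67), (2, 67), (2, 67), (0, 66), (0, 66), (0, 66), (2, 67), (0, 67), (2, 68), (0, 68), (2, 69), (2, 69),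
  (2, 69), (0, 68), (0, 68), (0, 68), (2, 69), (0, 69), (2, 70), (0, 69), (0, 69), (2, 69), (2, 69), (0, 69),
  (2, 70), (0, 70), (2, 71), (2, 71), (0, 71), (0, 70), (0, 70), (2, 71), (2, 71), (2, 71), (0, 71), (2, 72),
  (2, 72), (2, 72), (0, 71), (0, 71), (0, 71), (0, 70), (0, 70), (0, 70), (2, 71), (0, 71), (2, 72), (0, 72),
  (2, 73), (2, 73), (2, 73), (0, 72), (0, 72), (0, 72), (2, 73), (0, 73), (2, 74), (0, 73), (0, 73), (2, 73),
  (2, 73), (0, 73), (2, 74), (0, 74), (2, 75), (2, 75), (0, 75), (0, 74), (0, 74), (2, 75), (2, 75), (2, 75),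
  (0, 75), (2, 76), (2, 76), (2, 76), (0, 75), (0, 75), (0, 75), (2, 75), (2, 75), (2, 75), (0, 75), (0, 74),
  (0, 73), (0, 73), (0, 73), (2, 73), (2, 73), (2, 73), (0, 73), (0, 72), (2, 72), (2, 72), (0, 72), (2, 73),
  (2, 73), (2, 73), (0, 73), (0, 72), (2, 72), (2, 72), (2, 72), (0, 71), (0, 71), (0, 71), (0, 70), (0, 70),
  (0, 70), (2, 70), (2, 70), (2, 70), (2, 70), (2, 70), (2, 70), (0, 70), (0, 69), (0, 68), (0, 68), (0, 68),
  (2, 68), (2, 68), (2, 68), (0, 68), (0, 67), (2, 67), (2, 67), (0, 67), (2, 68), (2, 68), (2, 68), (0, 68),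
  (0, 67), (2, 67), (2, 67), (2, 67), (0, 66), (0, 66), (0, 66), (0, 65), (0, 65), (0, 65), (2, 65), (2, 65),
  (2, 65), (0, 65), (2, 66), (2, 66), (2, 66), (2, 66), (2, 66), (2, 66), (2, 66), (2, 66), (0, 66), (2, 67),
  (2, 67), (2, 67), (2, 67), (2, 67), (0, 67), (2, 68), (2, 68), (2, 68), (2, 66), (2, 66), (2, 66), (2, 63),
  (2, 63), (2, 63), (2, 63), (2, 63), (2, 63), (2, 63), (2, 63), (2, 63), (0, 63), (2, 64), (2, 64), (2, 64),
  (2, 64), (2, 64), (2, 64), (2, 64), (2, 64), (0, 64), (2, 65), (2, 65), (2, 65), (2, 65), (2, 65), (0, 65),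
  (2, 66), (2, 66), (2, 66), (2, 64), (2, 64), (2, 64), (2, 61), (2, 61), (2, 61), (2, 61), (2, 61), (2, 61),
  (2, 61), (2, 61), (2, 61), (2, 61), (2, 56), (2, 56), (2, 56), (2, 56), (2, 51), (2, 49), (2, 46), (2, 46),
  (2, 46), (2, 46), (2, 46), (2, 46), (2, 43), (2, 38), (2, 38), (2, 38), (2, 38), (2, 33), (2, 31), (2, 28),
  (2, 28), (2, 28), (2, 28), (2, 28), (2, 28), (2, 25), (2, 22), (2, 22), (2, 15), (2, 12), (2, 12)]

def tbl : List (ℕ × ℕ) := [(1, 1), (2, 128), (3, 225), (4, 128), (6, 576), (7, 7), (12, 576), (14, 224), (21, 231), (28, 224), (42, 672), (84, 672)]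

theorem n_le : n ≤ 128 := by decide

theorem valid : ∀ g ∈ gd, Valid n g := by decide +kernel

set_option maxRecDepth 1000000 in
theorem closed : checkClosed n gd (build n gd pairs) = true := by decide +kernel

set_option maxRecDepth 1000000 in
theorem nodup : nodupB (build n gd pairs) = true := by decide +kernel

set_option maxRecDepth 1000000 in
theorem len : (build n gd pairs).length = fval tbl 84 := by decide +kernel

set_option maxRecDepth 1000000 in
theorem stats : statTbl n (build n gd pairs) = tbl := by decide +kernel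

/-- the group -/
abbrev X : Type := grp n gd

theorem F_X (d : ℕ) : F X d = fval tbl d :=
  F_grp n_le valid closed nodup tbl stats len d

theorem card_X : Nat.card X = 672 := by
  rw [show X = grp n gd from rfl, card_grp n_le valid closed nodup tbl stats len]
  rfl

end Cfsg.Agent.H2.OT.G26
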