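import Mathlib
import Cfsg.Agent.H2.OrdType.Stats

/-! generated data: a permutation group of order 896 on 16 points -/

namespace Cfsg.Agent.H2.OT.G27

def n : ℕ := 16

def gd : List DP := [531168040223761623426127674640270,
  285865211041563179725235140346889]

def pairs : List (ℕ × ℕ) := [(0, 0), (1, 1), (0, 1), (1, 2), (0, 2), (1, 3), (0, 3), (1, 4), (0, 4), (1, 5), (0, 5), (1, 6),
  (0, 6), (1, 7), (0, 7), (1, 8), (0, 8), (1, 9), (0, 9), (1, 10), (0, 10), (1, 11), (0, 11), (1, 12),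
  (0, 12), (1, 13), (0, 13), (1, 14), (0, 14), (0, 14), (1, 15), (0, 15), (1, 16), (0, 16), (1, 17), (0, 17),
  (1, 18), (0, 18), (1, 19), (0, 19), (1, 20), (0, 20), (1, 21), (0, 21), (0, 21), (1, 22), (0, 22), (1, 23),
  (1, 23), (0, 23), (1, 24), (0, 24), (1, 25), (0, 25), (1, 26), (0, 26), (1, 27), (0, 27), (1, 28), (0, 28),
  (1, 29), (0, 29), (1, 30), (0, 30), (1, 31), (0, 31), (1, 32), (0, 32), (1, 33), (0, 33), (1, 34), (0, 34),
  (0, 34), (1, 35), (0, 35), (1, 36), (1, 36), (0, 36), (1, 37), (0, 37), (1, 38), (0, 38), (1, 39), (0, 39),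
  (1, 40), (0, 40), (1, 41), (0, 41), (1, 42), (0, 42), (1, 43), (1, 43), (0, 43), (1, 44), (0, 44), (1, 45),
  (0, 45), (0, 45), (1, 46), (0, 46), (1, 47), (1, 47), (0, 47), (1, 48), (0, 48), (1, 49), (0, 49), (1, 50),
  (1, 50), (0, 50), (1, 51), (0, 51), (0, 51), (1, 52), (0, 52), (1, 53), (0, 53), (1, 54), (0, 54), (1, 55),
  (0, 55), (0, 55), (1, 56), (0, 56), (1, 57), (1, 57), (0, 57), (1, 58), (0, 58), (1, 59), (0, 59), (0, 59),
  (1, 60), (0, 60), (1, 61), (0, 61), (1, 62), (0, 62), (1, 63), (0, 62), (1, 63), (0, 63), (0, 63), (0, 63),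
  (1, 64), (0, 64), (1, 65), (0, 64), (1, 65), (0, 65), (1, 66), (0, 66), (1, 67), (0, 67), (1, 68), (0, 68),
  (1, 69), (0, 69), (1, 70), (0, 70), (0, 70), (0, 70), (1, 71), (0, 71), (1, 71), (1, 71), (0, 71), (1, 72),
  (0, 72), (1, 73), (0, 73), (1, 74), (0, 74), (1, 75), (0, 75), (0, 75), (1, 76), (1, 76), (0, 76), (1, 77),
  (0, 77), (1, 78), (0, 78), (0, 78), (0, 78), (1, 79), (1, 79), (0, 79), (1, 80), (0, 80), (1, 81), (0, 81),
  (0, 81), (1, 82), (0, 82), (1, 83), (0, 83), (1, 84), (0, 84), (0, 84), (1, 85), (0, 85), (1, 86), (1, 86),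
  (0, 86), (1, 87), (0, 87), (1, 88), (0, 88), (0, 88), (1, 89), (0, 89), (1, 90), (0, 90), (1, 91), (0, 91),
  (1, 92), (0, 91), (1, 92), (0, 92), (0, 92), (0, 92), (1, 93), (0, 93), (1, 94), (0, 93), (1, 94), (0, 94),
  (1, 95), (0, 95), (1, 96), (0, 96), (1, 97), (0, 97), (1, 98), (0, 98), (0, 98), (0, 98), (1, 99), (1, 99),
  (1, 99), (0, 99), (1, 100), (0, 100), (1, 101), (0, 101), (0, 101), (0, 101), (1, 102), (1, 102), (0, 102), (1, 103),
  (0, 103), (0, 103), (0, 103), (1, 104), (0, 103), (1, 104), (1, 104), (0, 104), (1, 105), (0, 105), (0, 105), (1, 106),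
  (0, 106), (1, 107), (0, 107), (1, 108), (0, 108), (1, 109), (0, 109), (1, 109), (1, 109), (0, 109), (1, 110), (1, 110),
  (0, 110), (0, 110), (1, 111), (0, 111), (1, 112), (0, 111), (1, 112), (0, 112), (1, 113), (0, 113), (1, 114), (0, 114),
  (1, 115), (0, 115), (0, 115), (1, 116), (0, 116), (0, 116), (1, 117), (0, 117), (1, 117), (1, 117), (1, 117), (0, 117),
  (1, 118), (0, 118), (1, 119), (0, 119), (1, 120), (0, 120), (1, 121), (1, 121), (0, 121), (1, 122), (0, 122), (1, 123),
  (0, 123), (0, 123), (0, 123), (1, 124), (0, 124), (1, 125), (0, 125), (1, 126), (0, 126), (0, 126), (1, 127), (0, 127),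
  (1, 128), (0, 128), (1, 129), (0, 129), (0, 129), (1, 129), (0, 129), (1, 130), (0, 130), (1, 131), (0, 130), (1, 131),
  (0, 131), (0, 131), (0, 131), (1, 132), (0, 132), (1, 133), (0, 132), (1, 133), (0, 132), (1, 133), (0, 133), (1, 134),
  (0, 134), (1, 135), (0, 135), (0, 135), (0, 135), (1, 136), (1, 136), (1, 136), (0, 136), (1, 137), (0, 137), (1, 138),
  (0, 138), (0, 138), (0, 138), (1, 139), (1, 139), (0, 139), (0, 139), (1, 140), (0, 139), (1, 140), (1, 140), (0, 140),
  (1, 141), (0, 141), (0, 141), (1, 142), (0, 142), (1, 143), (0, 143), (1, 144), (0, 144), (1, 145), (0, 145), (1, 145),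
  (1, 145), (0, 143), (1, 144), (0, 144), (1, 145), (0, 145), (1, 146), (0, 146), (1, 147), (0, 147), (1, 148), (0, 148),
  (1, 149), (0, 149), (0, 149), (1, 150), (0, 150), (1, 150), (0, 150), (0, 150), (0, 150), (1, 151), (0, 151), (1, 152),
  (1, 152), (1, 152), (0, 151), (1, 152), (0, 152), (0, 152), (0, 152), (0, 150), (1, 151), (1, 150), (1, 150), (0, 150),
  (1, 151), (0, 151), (0, 151), (1, 152), (0, 152), (0, 152), (1, 152), (1, 152), (0, 151), (1, 152), (0, 151), (0, 151),
  (1, 151), (0, 151), (1, 152), (0, 152), (0, 152), (0, 152), (1, 153), (0, 152), (1, 153), (1, 153), (0, 153), (0, 152),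
  (0, 152), (1, 153), (0, 153), (1, 153), (1, 153), (0, 153), (1, 154), (1, 154), (0, 154), (0, 154), (1, 153), (1, 153),
  (0, 153), (1, 154), (0, 154), (1, 155), (0, 153), (1, 154), (0, 154), (1, 154), (1, 154), (1, 154), (1, 154), (0, 154),
  (1, 155), (1, 155), (0, 155), (1, 156), (0, 156), (0, 156), (1, 157), (0, 157), (1, 158), (1, 158), (0, 158), (0, 158),
  (1, 158), (0, 158), (1, 159), (1, 159), (0, 158), (1, 159), (0, 159), (0, 158), (1, 159), (0, 159), (1, 160), (0, 160),
  (0, 160), (0, 160), (0, 160), (1, 161), (1, 161), (1, 161), (0, 161), (1, 162), (0, 162), (1, 163), (0, 163), (0, 163),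
  (0, 163), (1, 164), (1, 164), (0, 164), (0, 164), (1, 165), (1, 165), (0, 165), (1, 166), (0, 166), (0, 166), (1, 167),
  (0, 167), (1, 168), (0, 168), (1, 169), (0, 169), (1, 170), (0, 170), (1, 170), (0, 167), (1, 168), (0, 168), (1, 169),
  (0, 169), (1, 170), (0, 170), (1, 171), (0, 171), (1, 172), (0, 172), (1, 173), (0, 173), (0, 173), (1, 174), (0, 174),
  (0, 174), (0, 174), (1, 175), (1, 175), (1, 175), (0, 174), (0, 174), (0, 174), (0, 174), (0, 172), (1, 173), (1, 172),
  (1, 172), (0, 172), (0, 172), (0, 172), (1, 173), (0, 173), (0, 173), (0, 172), (0, 172), (0, 171), (0, 171), (0, 170),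
  (1, 171), (1, 171), (0, 171), (0, 171), (0, 171), (1, 172), (0, 172), (1, 172), (1, 172), (1, 172), (0, 169), (1, 170),
  (0, 168), (1, 169), (0, 169), (1, 167), (0, 167), (1, 168), (0, 168), (1, 169), (0, 169), (1, 170), (1, 170), (0, 170),
  (0, 170), (1, 171), (0, 171), (0, 171), (0, 171), (1, 172), (0, 171), (1, 172), (0, 172), (1, 173), (1, 172), (1, 172),
  (0, 172), (1, 171), (0, 171), (0, 171), (0, 169), (0, 169), (1, 169), (0, 169), (1, 170), (1, 170), (1, 170), (0, 169),
  (0, 169), (1, 168), (1, 168), (0, 168), (1, 166), (1, 166), (0, 165), (1, 166), (0, 166), (0, 166), (0, 166), (1, 165),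
  (1, 163), (1, 163), (1, 163), (1, 163), (0, 163), (0, 163), (1, 163), (1, 163), (1, 163), (1, 162), (0, 162), (0, 162),
  (1, 162), (0, 162), (1, 163), (1, 163), (0, 162), (0, 161), (1, 162), (1, 162), (0, 161), (0, 161), (1, 162), (0, 161),
  (0, 161), (1, 162), (0, 162), (0, 162), (1, 163), (0, 163), (1, 163), (0, 163), (1, 164), (0, 164), (1, 165), (0, 165),
  (1, 165), (0, 162), (1, 163), (0, 163), (0, 163), (1, 164), (0, 164), (1, 165), (1, 165), (0, 165), (1, 166), (0, 166),
  (0, 166), (1, 167), (0, 167), (0, 167), (1, 167), (0, 165), (0, 165), (0, 165), (1, 163), (1, 162), (1, 162), (0, 162),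
  (0, 162), (1, 162), (0, 162), (0, 161), (0, 161), (0, 160), (0, 160), (0, 159), (1, 159), (0, 159), (0, 159), (0, 159),
  (1, 160), (0, 160), (1, 160), (1, 160), (1, 160), (0, 160), (1, 161), (0, 160), (1, 161), (0, 158), (1, 159), (0, 159),
  (1, 160), (0, 160), (1, 161), (1, 161), (0, 161), (0, 161), (1, 162), (0, 162), (0, 162), (1, 161), (0, 161), (1, 160),
  (0, 160), (0, 160), (0, 159), (1, 160), (1, 160), (0, 159), (0, 159), (1, 157), (0, 157), (1, 155), (1, 152), (0, 150),
  (1, 151), (0, 151), (1, 151), (0, 151), (1, 151), (0, 151), (1, 152), (0, 152), (0, 152), (1, 151), (0, 151), (1, 152),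
  (0, 152), (0, 152), (1, 152), (0, 151), (0, 151), (0, 151), (1, 152), (0, 152), (1, 151), (0, 150), (0, 150), (1, 146),
  (0, 146), (0, 144), (1, 145), (0, 145), (0, 145), (0, 145), (1, 145), (0, 145), (1, 144), (0, 144), (0, 144), (1, 140),
  (1, 139), (1, 136), (0, 136), (1, 134), (0, 133), (0, 133), (0, 133), (1, 134), (0, 133), (1, 134), (0, 133), (1, 133),
  (0, 130), (1, 131), (0, 131), (1, 127), (0, 125), (1, 125), (0, 125), (0, 124), (0, 124), (0, 124), (0, 124), (0, 122),
  (0, 122), (0, 122), (0, 122), (1, 122), (1, 120), (0, 120), (1, 120), (0, 120), (1, 121), (0, 121), (1, 122), (0, 122),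
  (0, 122), (1, 123), (0, 122), (0, 121), (0, 120), (0, 120), (0, 119), (1, 120), (0, 119), (0, 119), (1, 117), (0, 117),
  (1, 115), (1, 111), (0, 109), (1, 109), (1, 109), (1, 106), (0, 106), (1, 107), (0, 106), (0, 106), (0, 105), (0, 105),
  (1, 104), (0, 102), (1, 103), (0, 103), (0, 103), (0, 100), (0, 99), (1, 98), (0, 96), (0, 96), (1, 97), (0, 96),
  (1, 96), (1, 96), (0, 96), (0, 95), (0, 95), (0, 90), (1, 90), (0, 89), (0, 89), (1, 85), (1, 81), (1, 80),
  (1, 78), (0, 77), (1, 78), (0, 75), (1, 73), (0, 73), (0, 70), (0, 70), (0, 69), (1, 70), (0, 70), (0, 62),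
  (1, 62), (1, 62), (0, 57), (0, 57), (1, 56), (0, 55), (1, 56), (0, 56), (0, 54), (1, 53), (0, 49), (0, 49),
  (0, 48), (0, 46), (0, 43), (1, 44), (0, 40), (0, 39), (0, 37), (1, 38), (1, 32), (0, 32), (0, 27), (1, 25),
  (1, 25), (1, 24), (0, 22), (1, 15), (1, 12), (1, 9), (1, 2)]

def tbl : List (ℕ × ℕ) := [(1, 1), (2, 16), (3, 1), (4, 128), (6, 16), (7, 385), (12, 128), (14, 784), (21, 385), (28, 896), (42, 784), (84, 896)]

theorem n_le : n ≤ 128 := by decide

theorem valid : ∀ g ∈ gd, Valid n g := by decide +kernel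

set_option maxRecDepth 1000000 in
theorem closed : checkClosed n gd (build n gd pairs) = true := by decide +kernel

set_option maxRecDepth 1000000 in
theorem nodup : nodupB (build n gd pairs) = true := by decide +kernel

set_option maxRecDepth 1000000 in
theorem len : (build n gd pairs).length = fval tbl 84 := by decide +kernel

set_option maxRecDepth 1000000 in
theorem stats : statTbl n (build n gd pairs) = tbl := by decide +kernel

/-- the group -/
abbrev X : Type := grp n gd

theorem F_X (d : ℕ) : F X d = fval tbl d :=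
  F_grp n_le valid closed nodup tbl stats len d

theorem card_X : Nat.card X = 896 := by
  rw [show X = grp n gd from rfl, card_grp n_le valid closed nodup tbl stats len]
  rfl

end Cfsg.Agent.H2.OT.G27
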