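import Mathlib
import Cfsg.Agent.S0144
import Cfsg.Agent.H2.OrdType.Basic

/-!
# Solvability from counts (using Burnside's `p^a q^b` theorem)
-/

namespace Cfsg.Agent.H2.OT

theorem isSolvable_of_card_two_primes {X : Type*} [Group X] [Finite X] (p q a b : ℕ)
    (hp : p.Prime) (hq : q.Prime) (h : Nat.card X = p ^ a * q ^ b) : Group.IsSolvable X :=
  Cfsg.Agent.S0144.result p q a b hp hq h

/-- if the equation `x ^ (p ^ c) = 1` has exactly `p ^ c` solutions, the Sylow `p`-subgroup is
normal; with a quotient of order `q ^ a * r ^ b` the group is solvable. -/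
theorem isSolvable_of_sylow_count {X : Type*} [Group X] [Finite X] (p q r c a b : ℕ)
    (hp : p.Prime) (hq : q.Prime) (hr : r.Prime)
    (hcard : Nat.card X = p ^ c * (q ^ a * r ^ b)) (hF : F X (p ^ c) = p ^ c) :
    Group.IsSolvable X := by
  have : Fact p.Prime := ⟨hp⟩
  obtain ⟨K, hK⟩ := Sylow.exists_subgroup_card_pow_prime p
    (show p ^ c ∣ Nat.card X from ⟨_, hcard⟩)
  let S : Set X := {x | x ^ (p ^ c) = 1}
  have hKS : (K : Set X) ⊆ S := by
    intro x hx
    have h1 : (⟨x, hx⟩ : K) ^ Nat.card K = 1 := pow_card_eq_one'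
    rw [hK] at h1
    have := congrArg Subtype.val h1
    show x ^ (p ^ c) = 1
    simpa using this
  have hScard : S.ncard = p ^ c := by
    rw [← hF]
    exact (Nat.card_coe_set_eq S).symm
  have hKcard : (K : Set X).ncard = p ^ c := by
    rw [← hK]
    exact (Nat.card_coe_set_eq (K : Set X)).symm
  have hEq : (K : Set X) = S :=
    Set.eq_of_subset_of_ncard_le hKS (by rw [hScard, hKcard]) (Set.toFinite S)
  have hKn : K.Normal := by
    constructor
    intro x hx g
    have hxS : x ∈ S := hKS hx
    have : g * x * g⁻¹ ∈ S := by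
      show (g * x * g⁻¹) ^ (p ^ c) = 1
      rw [conj_pow, show x ^ (p ^ c) = 1 from hxS]
      group
    rw [← hEq] at this
    exact this
  have hquot : Nat.card (X ⧸ K) = q ^ a * r ^ b := by
    have h1 := Subgroup.card_eq_card_quotient_mul_card_subgroup K
    rw [hK, hcard, mul_comm] at h1
    exact (Nat.eq_of_mul_eq_mul_right (pow_pos hp.pos c) h1).symm
  have : Group.IsSolvable (X ⧸ K) := isSolvable_of_card_two_primes q r a b hq hr hquot
  have : Group.IsSolvable K :=
    isSolvable_of_card_two_primes p q c 0 hp hq (by rw [hK, pow_zero, mul_one])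
  apply Group.isSolvable_of_ker_le_range K.subtype (QuotientGroup.mk' K)
  rw [QuotientGroup.ker_mk', Subgroup.range_subtype]

end Cfsg.Agent.H2.OT
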