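import Mathlib
import Cfsg.Agent.H2.OrdType.Solv
import Cfsg.Agent.H2.OrdType.G01
import Cfsg.Agent.H2.OrdType.G02
import Cfsg.Agent.H2.OrdType.G03
import Cfsg.Agent.H2.OrdType.G04
import Cfsg.Agent.H2.OrdType.G05
import Cfsg.Agent.H2.OrdType.G06
import Cfsg.Agent.H2.OrdType.G07
import Cfsg.Agent.H2.OrdType.G08
import Cfsg.Agent.H2.OrdType.G09
import Cfsg.Agent.H2.OrdType.G10
import Cfsg.Agent.H2.OrdType.G11
import Cfsg.Agent.H2.OrdType.G12
import Cfsg.Agent.H2.OrdType.G13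
import Cfsg.Agent.H2.OrdType.G14
import Cfsg.Agent.H2.OrdType.G15
import Cfsg.Agent.H2.OrdType.G16
import Cfsg.Agent.H2.OrdType.G17
import Cfsg.Agent.H2.OrdType.G18
import Cfsg.Agent.H2.OrdType.G19
import Cfsg.Agent.H2.OrdType.G20
import Cfsg.Agent.H2.OrdType.G21
import Cfsg.Agent.H2.OrdType.G22
import Cfsg.Agent.H2.OrdType.G23
import Cfsg.Agent.H2.OrdType.G24
import Cfsg.Agent.H2.OrdType.G25
import Cfsg.Agent.H2.OrdType.G26
import Cfsg.Agent.H2.OrdType.G27
import Cfsg.Agent.H2.OrdType.G28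

/-!
# A solvable and a non-solvable group with the same order type

Generated assembly: `GG` is a direct product of solvable permutation groups, `HH` contains three
copies of `PSL(2,7)`; both have `2^158 * 3^33 * 7^44` elements and the same number of solutions of
`x ^ d = 1` for every `d`.
-/

namespace Cfsg.Agent.H2.OT

theorem solv_G02 : Group.IsSolvable G02.X :=
  isSolvable_of_card_two_primes 7 2 1 0 (by norm_num) (by norm_num)
    (by rw [G02.card_X]; norm_num)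

theorem solv_G03 : Group.IsSolvable G03.X :=
  isSolvable_of_card_two_primes 2 3 3 0 (by norm_num) (by norm_num)
    (by rw [G03.card_X]; norm_num)

theorem solv_G04 : Group.IsSolvable G04.X :=
  isSolvable_of_card_two_primes 2 3 2 1 (by norm_num) (by norm_num)
    (by rw [G04.card_X]; norm_num)

theorem solv_G09 : Group.IsSolvable G09.X :=
  isSolvable_of_card_two_primes 2 7 2 1 (by norm_num) (by norm_num)
    (by rw [G09.card_X]; norm_num)

theorem solv_G10 : Group.IsSolvable G10.X :=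
  isSolvable_of_sylow_count 7 2 3 1 1 1 (by norm_num) (by norm_num) (by norm_num)
    (by rw [G10.card_X]; norm_num) (by rw [G10.F_X]; rfl)

theorem solv_G12 : Group.IsSolvable G12.X :=
  isSolvable_of_card_two_primes 2 7 3 1 (by norm_num) (by norm_num)
    (by rw [G12.card_X]; norm_num)

theorem solv_G16 : Group.IsSolvable G16.X :=
  isSolvable_of_card_two_primes 2 7 1 2 (by norm_num) (by norm_num)
    (by rw [G16.card_X]; norm_num)

theorem solv_G17 : Group.IsSolvable G17.X :=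
  isSolvable_of_sylow_count 2 3 7 3 1 1 (by norm_num) (by norm_num) (by norm_num)
    (by rw [G17.card_X]; norm_num) (by rw [G17.F_X]; rfl)

theorem solv_G21 : Group.IsSolvable G21.X :=
  isSolvable_of_sylow_count 7 2 3 1 4 1 (by norm_num) (by norm_num) (by norm_num)
    (by rw [G21.card_X]; norm_num) (by rw [G21.F_X]; rfl)

theorem solv_G22 : Group.IsSolvable G22.X :=
  isSolvable_of_card_two_primes 2 7 6 1 (by norm_num) (by norm_num)
    (by rw [G22.card_X]; norm_num)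

theorem solv_G23 : Group.IsSolvable G23.X :=
  isSolvable_of_sylow_count 7 2 3 1 3 2 (by norm_num) (by norm_num) (by norm_num)
    (by rw [G23.card_X]; norm_num) (by rw [G23.F_X]; rfl)

theorem solv_G24 : Group.IsSolvable G24.X :=
  isSolvable_of_sylow_count 7 2 3 1 5 1 (by norm_num) (by norm_num) (by norm_num)
    (by rw [G24.card_X]; norm_num) (by rw [G24.F_X]; rfl)

theorem solv_G25 : Group.IsSolvable G25.X :=
  isSolvable_of_sylow_count 7 2 3 1 5 1 (by norm_num) (by norm_num) (by norm_num)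
    (by rw [G25.card_X]; norm_num) (by rw [G25.F_X]; rfl)

/-- the solvable group -/
abbrev GG : Type :=
  (Fin 1 → G02.X) × (Fin 6 → G03.X) × (Fin 3 → G04.X) × (Fin 6 → G09.X) × (Fin 3 → G10.X) × (Fin 6 → G12.X) × (Fin 2 → G16.X) × (Fin 3 → G17.X) × (Fin 6 → G21.X) × (Fin 3 → G22.X) × (Fin 6 → G23.X) × (Fin 3 → G24.X) × (Fin 3 → G25.X)

/-- the non-solvable group -/
abbrev HH : Type :=
  (Fin 3 → G28.X) × (Fin 3 → G01.X) × (Fin 6 → G05.X) × (Fin 1 → G06.X) × (Fin 3 → G07.X) × (Fin 3 → G08.X) × (Fin 3 → G11.X) × (Fin 6 → G13.X) × (Fin 3 → G14.X) × (Fin 6 → G15.X) × (Fin 6 → G18.X) × (Fin 3 → G19.X) × (Fin 2 → G20.X) × (Fin 3 → G26.X) × (Fin 3 → G27.X)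

/-- table lookup -/
def fl (tbl : List (ℕ × ℕ)) (e : ℕ) : ℕ := (tbl.lookup e).getD 0

def lhs (e : ℕ) : ℕ :=
  fl G02.tbl e ^ 1 * (fl G03.tbl e ^ 6 * (fl G04.tbl e ^ 3 * (fl G09.tbl e ^ 6 * (fl G10.tbl e ^ 3 * (fl G12.tbl e ^ 6 * (fl G16.tbl e ^ 2 * (fl G17.tbl e ^ 3 * (fl G21.tbl e ^ 6 * (fl G22.tbl e ^ 3 * (fl G23.tbl e ^ 6 * (fl G24.tbl e ^ 3 * (fl G25.tbl e ^ 3))))))))))))

def rhs (e : ℕ) : ℕ :=
  fl G28.tbl e ^ 3 * (fl G01.tbl e ^ 3 * (fl G05.tbl e ^ 6 * (fl G06.tbl e ^ 1 * (fl G07.tbl e ^ 3 * (fl G08.tbl e ^ 3 * (fl G11.tbl e ^ 3 * (fl G13.tbl e ^ 6 * (fl G14.tbl e ^ 3 * (fl G15.tbl e ^ 6 * (fl G18.tbl e ^ 6 * (fl G19.tbl e ^ 3 * (fl G20.tbl e ^ 2 * (fl G26.tbl e ^ 3 * (fl G27.tbl e ^ 3))))))))))))))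

theorem fval_eq (tbl : List (ℕ × ℕ)) (d : ℕ) : fval tbl d = fl tbl (Nat.gcd d 84) := rfl

theorem F_GG (d : ℕ) : F GG d = lhs (Nat.gcd d 84) := by
  simp only [F_prod, F_pi, G02.F_X, G03.F_X, G04.F_X, G09.F_X, G10.F_X, G12.F_X, G16.F_X, G17.F_X, G21.F_X, G22.F_X, G23.F_X, G24.F_X, G25.F_X, fval_eq]
  rfl

theorem F_HH (d : ℕ) : F HH d = rhs (Nat.gcd d 84) := by
  simp only [F_prod, F_pi, G28.F_X, G01.F_X, G05.F_X, G06.F_X, G07.F_X, G08.F_X, G11.F_X, G13.F_X, G14.F_X, G15.F_X, G18.F_X, G19.F_X, G20.F_X, G26.F_X, G27.F_X, fval_eq]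
  rfl

theorem lhs_eq_rhs : ∀ e ∈ divs84, lhs e = rhs e := by decide +kernel

theorem F_GG_eq_F_HH (d : ℕ) : F GG d = F HH d := by
  rw [F_GG, F_HH]
  exact lhs_eq_rhs _ (gcd84_mem d)

theorem solv_GG : Group.IsSolvable GG := by
  have hG02 : Group.IsSolvable (Fin 1 → G02.X) := @isSolvable_pi_fin _ _ solv_G02 1
  have hG03 : Group.IsSolvable (Fin 6 → G03.X) := @isSolvable_pi_fin _ _ solv_G03 6
  have hG04 : Group.IsSolvable (Fin 3 → G04.X) := @isSolvable_pi_fin _ _ solv_G04 3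
  have hG09 : Group.IsSolvable (Fin 6 → G09.X) := @isSolvable_pi_fin _ _ solv_G09 6
  have hG10 : Group.IsSolvable (Fin 3 → G10.X) := @isSolvable_pi_fin _ _ solv_G10 3
  have hG12 : Group.IsSolvable (Fin 6 → G12.X) := @isSolvable_pi_fin _ _ solv_G12 6
  have hG16 : Group.IsSolvable (Fin 2 → G16.X) := @isSolvable_pi_fin _ _ solv_G16 2
  have hG17 : Group.IsSolvable (Fin 3 → G17.X) := @isSolvable_pi_fin _ _ solv_G17 3
  have hG21 : Group.IsSolvable (Fin 6 → G21.X) := @isSolvable_pi_fin _ _ solv_G21 6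
  have hG22 : Group.IsSolvable (Fin 3 → G22.X) := @isSolvable_pi_fin _ _ solv_G22 3
  have hG23 : Group.IsSolvable (Fin 6 → G23.X) := @isSolvable_pi_fin _ _ solv_G23 6
  have hG24 : Group.IsSolvable (Fin 3 → G24.X) := @isSolvable_pi_fin _ _ solv_G24 3
  have hG25 : Group.IsSolvable (Fin 3 → G25.X) := @isSolvable_pi_fin _ _ solv_G25 3
  infer_instance

theorem not_solv_HH : ¬ Group.IsSolvable HH := by
  intro h
  apply G28.not_solvable
  let f : G28.X →* HH :=
    (MonoidHom.inl (Fin 3 → G28.X) ((Fin 3 → G01.X) × (Fin 6 → G05.X) × (Fin 1 → G06.X) × (Fin 3 → G07.X) × (Fin 3 → G08.X) × (Fin 3 → G11.X) × (Fin 6 → G13.X) × (Fin 3 → G14.X) × (Fin 6 → G15.X) × (Fin 6 → G18.X) × (Fin 3 → G19.X) × (Fin 2 → G20.X) × (Fin 3 → G26.X) × (Fin 3 → G27.X))).comp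
      (MonoidHom.mulSingle (fun _ : Fin 3 => G28.X) 0)
  have hf : Function.Injective f := by
    intro x y hxy
    have h1 := congrArg Prod.fst hxy
    have h2 := congrFun h1 0
    simpa [f] using h2
  exact Group.isSolvable_of_isSolvable_injective hf

set_option synthInstance.maxSize 2000 in
set_option synthInstance.maxHeartbeats 2000000 in
theorem finite_GG : Finite GG := inferInstance

set_option synthInstance.maxSize 2000 in
set_option synthInstance.maxHeartbeats 2000000 in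
theorem finite_HH : Finite HH := inferInstance

set_option synthInstance.maxSize 2000 in
set_option synthInstance.maxHeartbeats 2000000 in
theorem same_order_type (n : ℕ) :
    Nat.card {g : GG // orderOf g = n} = Nat.card {h : HH // orderOf h = n} :=
  cnt_eq_of_F_eq F_GG_eq_F_HH n

end Cfsg.Agent.H2.OT
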