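import Mathlib
import Cfsg.Agent.H2.OrdType.Stats

/-!
# Non-solvability certificate: every generator is a commutator
-/

namespace Cfsg.Agent.H2.OT

open scoped commutatorElement

/-- commutator certificate: `g = x y x' y'` with `x x' = 1`, `y y' = 1`, all in `L` -/
def commCheck (n : ℕ) (L : List DP) (g : DP) (q : DP × DP × DP × DP) : Bool :=
  lmem q.1 L && (lmem q.2.1 L && (lmem q.2.2.1 L && (lmem q.2.2.2 L &&
  (Nat.beq (dcomp n q.1 q.2.2.1) (did n) && (Nat.beq (dcomp n q.2.1 q.2.2.2) (did n) &&
  Nat.beq (dcomp n (dcomp n q.1 q.2.1) (dcomp n q.2.2.1 q.2.2.2)) g)))))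

/-- certificates for all generators -/
def certCheck (n : ℕ) (L : List DP) : List DP → List (DP × DP × DP × DP) → Bool
  | [], _ => true
  | _ :: _, [] => false
  | g :: gs, q :: qs => commCheck n L g q && certCheck n L gs qs

theorem exists_of_certCheck (n : ℕ) (L : List DP) (gs : List DP)
    (qs : List (DP × DP × DP × DP)) (h : certCheck n L gs qs = true) :
    ∀ g ∈ gs, ∃ q, commCheck n L g q = true := by
  induction gs generalizing qs with
  | nil => intro g hg; simp at hg
  | cons g gs ih =>
    cases qs with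
    | nil => simp [certCheck] at h
    | cons q qs =>
      simp only [certCheck, Bool.and_eq_true] at h
      intro g' hg'
      rcases List.mem_cons.mp hg' with rfl | hg'
      · exact ⟨q, h.1⟩
      · exact ih qs h.2 g' hg'

theorem not_solvable_grp {n : ℕ} (hn128 : n ≤ 128) {gd : List DP} {pairs : List (ℕ × ℕ)}
    (hv : ∀ g ∈ gd, Valid n g)
    (cert : List (DP × DP × DP × DP))
    (hcert : certCheck n (build n gd pairs) gd cert = true)
    (hnt : 1 < Nat.card (grp n gd)) : ¬ Group.IsSolvable (grp n gd) := by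
  set L := build n gd pairs with hL
  have hgood : ∀ a ∈ L, Good n gd a := build_good hn128 hv pairs
  have hgen : genSet n gd ⊆ (⁅grp n gd, grp n gd⁆ : Subgroup (Equiv.Perm (Fin n))) := by
    intro σ hσ
    obtain ⟨g, hg, hgσ⟩ := hσ
    obtain ⟨q, hq⟩ := exists_of_certCheck n L gd cert hcert g hg
    obtain ⟨x, y, x', y'⟩ := q
    simp only [commCheck, Bool.and_eq_true] at hq
    obtain ⟨h1, h2, h3, h4, h5, h6, h7⟩ := hq
    obtain ⟨sx, hsx, rx⟩ := hgood x ((lmem_iff _ _).mp h1)
    obtain ⟨sy, hsy, ry⟩ := hgood y ((lmem_iff _ _).mp h2)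
    obtain ⟨sx', _, rx'⟩ := hgood x' ((lmem_iff _ _).mp h3)
    obtain ⟨sy', _, ry'⟩ := hgood y' ((lmem_iff _ _).mp h4)
    have e1 : sx * sx' = 1 := by
      have := rep_comp hn128 rx rx'
      rw [Nat.eq_of_beq_eq_true h5] at this
      exact rep_perm_unique this (rep_did hn128)
    have e2 : sy * sy' = 1 := by
      have := rep_comp hn128 ry ry'
      rw [Nat.eq_of_beq_eq_true h6] at this
      exact rep_perm_unique this (rep_did hn128)
    have e3 : σ = sx * sy * (sx' * sy') := by
      have := rep_comp hn128 (rep_comp hn128 rx ry) (rep_comp hn128 rx' ry')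
      rw [Nat.eq_of_beq_eq_true h7] at this
      exact rep_perm_unique hgσ this
    have e4 : sx' = sx⁻¹ := eq_inv_of_mul_eq_one_right e1
    have e5 : sy' = sy⁻¹ := eq_inv_of_mul_eq_one_right e2
    have e6 : σ = ⁅sx, sy⁆ := by
      rw [e3, e4, e5, commutatorElement_def]
      group
    rw [SetLike.mem_coe, e6]
    exact Subgroup.commutator_mem_commutator hsx hsy
  have hle : grp n gd ≤ ⁅grp n gd, grp n gd⁆ := (Subgroup.closure_le _).mpr hgen
  have hle2 : ⁅grp n gd, grp n gd⁆ ≤ grp n gd := by
    rw [Subgroup.commutator_le]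
    intro a ha b hb
    rw [commutatorElement_def]
    exact Subgroup.mul_mem _ (Subgroup.mul_mem _ (Subgroup.mul_mem _ ha hb)
      (Subgroup.inv_mem _ ha)) (Subgroup.inv_mem _ hb)
  have hperf : Group.IsPerfect (grp n gd) := Subgroup.isPerfect_iff.mpr (le_antisymm hle2 hle)
  have hfin : Finite (grp n gd) := inferInstance
  have hntr : Nontrivial (grp n gd) := (Finite.one_lt_card_iff_nontrivial).mp hnt
  exact Group.IsPerfect.not_isSolvable (grp n gd)

end Cfsg.Agent.H2.OT
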